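import Groth.Agent.SGA7.K346.OmAlg
import Groth.Agent.SGA7.K543.TrEq
import Groth.Agent.SGA7.K751.FinEnd
import Groth.Agent.SGA7.K852.Dict
import Groth.Agent.Grpsch.TangentPoint
import Groth.Agent.S0354
import Groth.Agent.Sga7.H620.DimSmooth

/-!
# The trace ideal of the finite part of a smooth group scheme of dimension `g` is contained in `(p ^ g)`
-/

set_option autoImplicit false
set_option linter.unusedSectionVars false
universe u

open CategoryTheory CategoryTheory.Limits AlgebraicGeometry MonoidalCategory CartesianMonoidalCategory MonObj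
open TensorProduct IsLocalRing Groth.Agent.Books.AffBridge Groth.Agent.Sga3B.RootBridge989
open K564.Tate K852.Dict K751.Fin

namespace K346.Om

section field

variable {k : Type u} [Field k]

/-- the cotangent space of the kernel of `p` has at least the dimension of the group. -/
theorem dim_le (A : Over (Spec (CommRingCat.of k))) [GrpObj A] [LocallyOfFiniteType A.hom] [IsSeparated A.hom]
    (p : ℕ) (hp : (p : k) = 0) {C : Type u} [CommRing C] [HopfAlgebra k C] [Module.Finite k C]
    (i : SpecOver k C ⟶ A) [IsMonHom i] (hi : AlgGrp.IsKernel i ((𝟙 A : A ⟶ A) ^ p)) :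
    topologicalKrullDim A.left ≤ Module.finrank k (RingHom.ker (Bialgebra.counitAlgHom k C)).Cotangent := by
  obtain ⟨Q, _, _, _, ε, φ, t, hε, hφ, hker, ht, hcl⟩ := Groth.Agent.Grpsch.TangentPoint.exists_tangentPoint A
  have hAn : IsLocallyNoetherian A.left := LocallyOfFiniteType.isLocallyNoetherian A.hom
  have htp := Groth.Agent.Grpsch.Cotangent.pow_eq_one A ε hε t ht p hp
  obtain ⟨s, hs⟩ := K787.BTKer.exists_lift hi t (by rw [K787.BTKer.comp_pow_id]; exact htp)
  obtain ⟨τ, rfl⟩ : ∃ τ : C →ₐ[k] Q, specMap k τ = s := ⟨specPreimage k s, specMap_specPreimage k s⟩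
  have hmi : Mono i := K787.BTKer.mono_of_isKernel hi
  have hcl2 : IsClosedImmersion (specMap k τ).left := by
    have h1 : IsClosedImmersion ((specMap k τ).left ≫ i.left) := by
      have h2 : (specMap k τ).left ≫ i.left = t.left := congrArg (fun z => z.left) hs
      rw [h2]
      exact hcl
    have h3 : Mono i.left := inferInstance
    exact IsClosedImmersion.of_comp _ i.left
  have hτ : Function.Surjective τ := (Groth.Agent.Books.AffBridge2.isClosedImmersion_specMap_iff k τ).1 hcl2
  have hετ : ε.comp τ = Bialgebra.counitAlgHom k C := by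
    apply specMap_injective k
    rw [← cancel_mono i, specMap_comp, Category.assoc]
    have h1 : specMap k (Bialgebra.counitAlgHom k C) = 1 := by
      rw [← specMap_one k (A := C) (R := k)]
      congr 1
    rw [h1, MonObj.one_comp]
    exact (congrArg (fun z => specMap k ε ≫ z) hs).trans ht
  have h1 := K346.OmAlg.ringKrullDim_le ε φ hε hφ hker τ hτ hετ
  rwa [Groth.Agent.S0354.result k A _ (Groth.Agent.Grpsch.TangentPoint.isClosed_unit A)] at h1

end field

section main

/-- kernels and isomorphisms -/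
theorem isKernel_iso {S : Scheme.{u}} {N N' G Q : Over S} [GrpObj Q] (i : N ⟶ G) (q : G ⟶ Q)
    (h : AlgGrp.IsKernel i q) (e : N' ≅ N) : AlgGrp.IsKernel (e.hom ≫ i) q := by
  have hm : Mono i := K787.BTKer.mono_of_isKernel h
  have hm2 : Mono (e.hom ≫ i) := mono_comp _ _
  apply K787.BTKer.isKernel_of_points
  · rw [Category.assoc, K787.BTKer.comp_eq_one h, MonObj.comp_one]
  · intro T x hx
    obtain ⟨y, hy⟩ := K787.BTKer.exists_lift h x hx
    exact ⟨y ≫ e.inv, by rw [Category.assoc, Iso.inv_hom_id_assoc, hy]⟩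

variable {R K : Type u} [CommRing R] [IsDomain R] [IsDiscreteValuationRing R] [CharZero R]
  [IsAlgClosed (IsLocalRing.ResidueField R)] [Field K] [Algebra R K] [IsFractionRing R K]

/-- **OM**. -/
theorem main (p : ℕ) [Fact p.Prime] (hp : (p : R) ∈ IsLocalRing.maximalIdeal R) (g : ℕ)
    (H : Over (Spec (CommRingCat.of R))) [GrpObj H] [IsCommMonObj H] [Smooth H.hom] [IsSeparated H.hom]
    (hg : topologicalKrullDim ((SGA7.genFib R K).obj H).left = g) (hW : ℕ)
    (W : BTGrp.ProBT p (Spec (CommRingCat.of R)) hW) (j : ∀ n, W.G n ⟶ H)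
    (hj : ∀ n, IsFinPart H (W.G n) (p ^ n) (j n)) (Ψ : Sys R p hW) (M : Model W Ψ) :
    trI R (Ψ.B 1) ≤ Ideal.span {(p : R) ^ g} := by
  let k := IsLocalRing.ResidueField R
  rw [K543.TrEq.trI_eq R hp Ψ, Ideal.span_singleton_le_span_singleton]
  apply pow_dvd_pow
  obtain ⟨n, hn⟩ := Groth.Agent.Sga7.H620.DimSmooth.exists_dim H
  have hng : n = g := by
    have h1 := hn K (Spec.map (CommRingCat.ofHom (algebraMap R K)))
    have h2 := h1.symm.trans hg
    exact_mod_cast h2
  subst hng
  let t : Spec (CommRingCat.of k) ⟶ Spec (CommRingCat.of R) := sm R k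
  have ht : ∀ z, t z = IsLocalRing.closedPoint R := fun z => by
    have hz : z = IsLocalRing.closedPoint k := Subsingleton.elim (α := PrimeSpectrum k) _ _
    rw [hz]
    exact IsLocalRing.comap_closedPoint (IsLocalRing.residue R)
  have hk := isKernel_special (hj 1) t ht
  rw [pow_one] at hk
  have i1 := (hj 1).hom
  let e : SpecOver k (k ⊗[R] Ψ.B 1) ≅ Red.bc t (W.G 1) :=
    (bcIso k (Ψ.B 1) (R := R)).symm ≪≫ (Over.pullback t).mapIso (M.iso 1).symm
  have i2 : IsMonHom e.hom := by
    have h3 : IsMonHom (bcIso k (Ψ.B 1) (R := R)).symm.hom := inferInstanceAs (IsMonHom (bcIso k (Ψ.B 1) (R := R)).inv)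
    have h4 : IsMonHom ((Over.pullback t).map (M.iso 1).inv) := inferInstance
    exact inferInstanceAs (IsMonHom ((bcIso k (Ψ.B 1) (R := R)).symm.hom ≫ (Over.pullback t).map (M.iso 1).inv))
  have hk2 := isKernel_iso _ _ hk e
  have hpk : ((p : ℕ) : k) = 0 := by
    have h1 : residue R (p : R) = 0 := (residue_eq_zero_iff _).2 hp
    rw [map_natCast] at h1
    exact h1
  have i3 : LocallyOfFiniteType (Red.bc t H).hom := inferInstanceAs (LocallyOfFiniteType (pullback.snd H.hom t))
  have i4 : IsSeparated (Red.bc t H).hom := inferInstanceAs (IsSeparated (pullback.snd H.hom t))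
  have h5 := dim_le (Red.bc t H) p hpk (e.hom ≫ (Over.pullback t).map (j 1)) hk2
  have h6 : topologicalKrullDim (Red.bc t H).left = n := hn k t
  rw [h6] at h5
  exact_mod_cast h5

end main

end K346.Om
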