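import Groth.Agent.S1842
import Groth.Agent.Picfga.HilbPull
import Groth.Agent.BTGrp.K787.Kernel
import Groth.Prelude.Def_BT
import Groth.Prelude.Def_SGA7IX
import Mathlib.AlgebraicGeometry.Geometrically.Integral

/-!
# The height of the Barsotti-Tate group of an abelian variety of dimension `g` is `2 g`
-/

set_option autoImplicit false
set_option linter.unusedSectionVars false
universe u

open CategoryTheory CategoryTheory.Limits MonoidalCategory CartesianMonoidalCategory MonObj GrpObj AlgebraicGeometry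

namespace K346.HtEq

theorem height_eq {R K : Type u} [CommRing R] [Field K] [Algebra R K] {p h : ℕ} [Fact p.Prime]
    {A : Over (Spec (CommRingCat.of K))} [GrpObj A] [IsProper A.hom] [GeometricallyIntegral A.hom]
    {P : ℕ → Over (Spec (CommRingCat.of K))} [∀ ν, GrpObj (P ν)] {i : ∀ ν, P ν ⟶ A} {t : ∀ ν, P (ν + 1) ⟶ P ν}
    (hP : BTGrp.IsTatePro A p P i t)
    {G : BTGrp.ProBT p (Spec (CommRingCat.of R)) h}
    (e : ∀ ν, Red.bc (Spec.map (CommRingCat.ofHom (algebraMap R K))) (G.G ν) ≅ P ν)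
    (g : ℕ) (hg : topologicalKrullDim A.left = g) : h = 2 * g := by
  have hp1 : 1 ≤ p := (Fact.out : p.Prime).one_lt.le
  obtain ⟨h1, h2, h3⟩ := Groth.Agent.S1842.pos_case K A g hg p hp1
  have h4 : Mor2.IsFinLocFreeOfDeg (p ^ (2 * g)) ((𝟙 A : A ⟶ A) ^ p).left := by
    have h5 : LocallyOfFinitePresentation ((𝟙 A : A ⟶ A) ^ p).left := by
      have h6 : IsLocallyNoetherian A.left := LocallyOfFiniteType.isLocallyNoetherian A.hom
      infer_instance
    exact ⟨⟨h1, h2, h5⟩, h3⟩
  have hk : IsPullback (i 1).left (toUnit (P 1)).left ((𝟙 A : A ⟶ A) ^ p).left (η[A] : 𝟙_ _ ⟶ A).left := by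
    have h5 := ((hP.1 1).2 : IsPullback _ _ _ _).map (Over.forget _)
    rw [pow_one] at h5
    exact h5
  have h5 : Mor2.IsFinLocFreeOfDeg (p ^ (2 * g)) (toUnit (P 1)).left :=
    Groth.Agent.Picfga.HilbPull.isFinLocFreeOfDeg_of_isPullback hk h4
  have h6 : (toUnit (P 1)).left = (P 1).hom := by
    have h7 := Over.w (toUnit (P 1))
    change _ ≫ 𝟙 _ = _ at h7
    rw [Category.comp_id] at h7
    exact h7
  rw [h6] at h5
  have h7 : Mor2.IsFinLocFreeOfDeg (p ^ (1 * h)) (Red.bc (Spec.map (CommRingCat.ofHom (algebraMap R K))) (G.G 1)).hom :=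
    Groth.Agent.Picfga.HilbPull.isFinLocFreeOfDeg_of_isPullback (IsPullback.of_hasPullback _ _) (G.finLocFree 1)
  have h8 : IsPullback (e 1).hom.left (Red.bc (Spec.map (CommRingCat.ofHom (algebraMap R K))) (G.G 1)).hom (P 1).hom
      (𝟙 _) := by
    have : IsIso (e 1).hom.left := inferInstanceAs (IsIso ((Over.forget _).map (e 1).hom))
    exact IsPullback.of_horiz_isIso ⟨by rw [Category.comp_id]; exact Over.w (e 1).hom⟩
  have h9 := Groth.Agent.Picfga.HilbPull.isFinLocFreeOfDeg_of_isPullback h8 h5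
  have h10 := h7.2 (IsLocalRing.closedPoint K)
  have h11 := h9.2 (IsLocalRing.closedPoint K)
  have h12 : p ^ (1 * h) = p ^ (2 * g) := h10.symm.trans h11
  rw [_root_.one_mul] at h12
  exact Nat.pow_right_injective (Fact.out : p.Prime).two_le h12

end K346.HtEq
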