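import Groth.Agent.SGA7.K346.Height
import Groth.Agent.SGA7.K346.HtEq
import Groth.Agent.SGA7.K469.Neut
import Groth.Agent.SGA7.K543.Full
import Groth.Agent.Sga3.H826.SmSection
import Groth.Agent.Sga7.H742.P1Dim

/-!
# Semistable reduction and a Barsotti-Tate extension over a complete discrete valuation ring: good reduction (assembly)
-/

set_option autoImplicit false
set_option linter.unusedSectionVars false
universe u

open CategoryTheory CategoryTheory.Limits AlgebraicGeometry MonoidalCategory CartesianMonoidalCategory MonObj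
open TensorProduct IsLocalRing CartDual
open K564.Tate K852.Dict K852.Sch K751.Fin

namespace K346.ViaAsm

/-- finite parts. -/
def FIN : Prop := ∀ (R K : Type u) [CommRing R] [IsDomain R] [IsDiscreteValuationRing R] [CharZero R]
  [HenselianLocalRing R] [IsAlgClosed (IsLocalRing.ResidueField R)] [Field K] [Algebra R K] [IsFractionRing R K]
  (p : ℕ) [Fact p.Prime] (H : Over (Spec (CommRingCat.of R))) [GrpObj H] [IsCommMonObj H] [Smooth H.hom]
  [IsSeparated H.hom] [QuasiCompact H.hom],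
  (∀ (k' : Type u) [Field k'] (t : Spec (CommRingCat.of k') ⟶ Spec (CommRingCat.of R)),
      IrreducibleSpace ↑(pullback H.hom t)) → SGA7.FibresUnipotentRankZero H →
  ∀ [IsProper ((SGA7.genFib R K).obj H).hom] [GeometricallyIntegral ((SGA7.genFib R K).obj H).hom],
  ∃ (hW : ℕ) (W : BTGrp.ProBT p (Spec (CommRingCat.of R)) hW) (j : ∀ n, W.G n ⟶ H),
    (∀ n, IsFinPart H (W.G n) (p ^ n) (j n)) ∧ (∀ n, W.incl n ≫ j (n + 1) = j n) ∧
    (∀ n, W.proj n ≫ j n = (j (n + 1)) ^ p)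

/-- the end. -/
def END : Prop := ∀ (R K : Type u) [CommRing R] [IsDomain R] [IsDiscreteValuationRing R] [CharZero R]
  [Field K] [Algebra R K] [IsFractionRing R K]
  (p : ℕ) [Fact p.Prime] (A : Over (Spec (CommRingCat.of K))) [GrpObj A] [IsProper A.hom]
  [GeometricallyIntegral A.hom] (g : ℕ) (_ : topologicalKrullDim A.left = g)
  (H : Over (Spec (CommRingCat.of R))) [GrpObj H] [IsCommMonObj H] [Smooth H.hom]
  [IsSeparated H.hom] [QuasiCompact H.hom],
  (∀ (k' : Type u) [Field k'] (t : Spec (CommRingCat.of k') ⟶ Spec (CommRingCat.of R)),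
      IrreducibleSpace ↑(pullback H.hom t)) → SGA7.FibresUnipotentRankZero H →
  ∀ (e : Red.bc (Spec.map (CommRingCat.ofHom (algebraMap R K))) H ≅ A), IsMonHom e.hom →
  ∀ (hW : ℕ) (W : BTGrp.ProBT p (Spec (CommRingCat.of R)) hW) (j : ∀ n, W.G n ⟶ H),
    (∀ n, IsFinPart H (W.G n) (p ^ n) (j n)) → 2 * g ≤ hW → SGA7.HasGoodReduction R K A

/-- the trace ideal of the finite part. -/
def OM : Prop := ∀ (R K : Type u) [CommRing R] [IsDomain R] [IsDiscreteValuationRing R] [CharZero R]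
  [IsAdicComplete (IsLocalRing.maximalIdeal R) R] [IsAlgClosed (IsLocalRing.ResidueField R)]
  [Field K] [Algebra R K] [IsFractionRing R K]
  (p : ℕ) [Fact p.Prime] (_ : (p : R) ∈ IsLocalRing.maximalIdeal R) (g : ℕ)
  (H : Over (Spec (CommRingCat.of R))) [GrpObj H] [IsCommMonObj H] [Smooth H.hom]
  [IsSeparated H.hom] [QuasiCompact H.hom],
  (∀ (k' : Type u) [Field k'] (t : Spec (CommRingCat.of k') ⟶ Spec (CommRingCat.of R)),
      IrreducibleSpace ↑(pullback H.hom t)) →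
  topologicalKrullDim ((SGA7.genFib R K).obj H).left = g →
  ∀ (hW : ℕ) (W : BTGrp.ProBT p (Spec (CommRingCat.of R)) hW) (j : ∀ n, W.G n ⟶ H),
    (∀ n, IsFinPart H (W.G n) (p ^ n) (j n)) → (∀ n, W.incl n ≫ j (n + 1) = j n) →
    (∀ n, W.proj n ≫ j n = (j (n + 1)) ^ p) → ∀ (Ψ : Sys R p hW) (_ : Model W Ψ),
    trI R (Ψ.B 1) ≤ Ideal.span {(p : R) ^ g}

/-- the polarisation over `R`. -/
def POLR : Prop := ∀ (R K : Type u) [CommRing R] [IsDomain R] [IsDiscreteValuationRing R] [CharZero R]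
  [IsAlgClosed (IsLocalRing.ResidueField R)]
  [Field K] [Algebra R K] [IsFractionRing R K] (p : ℕ) [Fact p.Prime] (_ : (p : R) ∈ IsLocalRing.maximalIdeal R)
  (A : Over (Spec (CommRingCat.of K))) [GrpObj A] [IsCommMonObj A] [IsProper A.hom] [GeometricallyIntegral A.hom]
  (P : ℕ → Over (Spec (CommRingCat.of K))) [∀ ν, GrpObj (P ν)] (i : ∀ ν, P ν ⟶ A) (t : ∀ ν, P (ν + 1) ⟶ P ν)
  (_ : BTGrp.IsTatePro A p P i t) (h : ℕ) (G : BTGrp.ProBT p (Spec (CommRingCat.of R)) h)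
  (e : ∀ ν, Red.bc (Spec.map (CommRingCat.ofHom (algebraMap R K))) (G.G ν) ≅ P ν)
  (_ : ∀ ν, IsMonHom (e ν).hom)
  (_ : ∀ ν, (SGA7.genFib R K).map (G.proj ν) ≫ (e ν).hom = (e (ν + 1)).hom ≫ t ν)
  (_ : ∀ ν, (SGA7.genFib R K).map (G.incl ν) ≫ (e (ν + 1)).hom ≫ i (ν + 1) = (e ν).hom ≫ i ν)
  (Φ : Sys R p h) (_ : Model G Φ) (_ : Full R K p),
  ∃ (N : ℕ) (u : ∀ n, D R (Φ.B n) →ₐc[R] Φ.B n) (v : ∀ n, Φ.B n →ₐc[R] D R (Φ.B n)), N ≠ 0 ∧
    (∀ n, (u n).comp (v n) = ((WithConv.toConv (BialgHom.id R (Φ.B n))) ^ N).ofConv) ∧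
    (∀ n, (v n).comp (u n) = ((WithConv.toConv (BialgHom.id R (D R (Φ.B n)))) ^ N).ofConv)

/-- consequence of the polarisation. -/
def PolDed : Prop := ∀ (R : Type u) [CommRing R] [IsDomain R] [IsDiscreteValuationRing R] [CharZero R]
  (p h g N : ℕ) [Fact p.Prime], h = 2 * g → N ≠ 0 → ((p : R) ∈ IsLocalRing.maximalIdeal R) →
  ∀ (Φ : Sys R p h) (u : ∀ n, D R (Φ.B n) →ₐc[R] Φ.B n) (v : ∀ n, Φ.B n →ₐc[R] D R (Φ.B n)),
  (∀ n, (u n).comp (v n) = ((WithConv.toConv (BialgHom.id R (Φ.B n))) ^ N).ofConv) →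
  (∀ n, (v n).comp (u n) = ((WithConv.toConv (BialgHom.id R (D R (Φ.B n)))) ^ N).ofConv) →
  Ideal.span {(p : R) ^ g} ≤ trI R (Φ.B 1)

/-- **VI-A** from the remaining nodes. -/
theorem main_of (hFIN : FIN.{u}) (hEND : END.{u}) (hOM : OM.{u}) (hPOLR : POLR.{u}) (hPolDed : PolDed.{u})
    (R K : Type u) [CommRing R] [IsDomain R] [IsDiscreteValuationRing R] [CharZero R]
    [IsAdicComplete (IsLocalRing.maximalIdeal R) R] [IsAlgClosed (IsLocalRing.ResidueField R)] [Field K] [Algebra R K]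
    [IsFractionRing R K] (p : ℕ) [Fact p.Prime] (hp : (p : R) ∈ IsLocalRing.maximalIdeal R)
    (N : Over (Spec (CommRingCat.of R))) [GrpObj N] [IsCommMonObj N] [Smooth N.hom] [IsSeparated N.hom]
    [QuasiCompact N.hom] (hN : SGA7.FibresUnipotentRankZero N)
    (A : Over (Spec (CommRingCat.of K))) [GrpObj A] [IsCommMonObj A] [IsProper A.hom] [GeometricallyIntegral A.hom]
    (e₀ : Red.bc (Spec.map (CommRingCat.ofHom (algebraMap R K))) N ≅ A) (he₀ : IsMonHom e₀.hom)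
    (P : ℕ → Over (Spec (CommRingCat.of K))) [∀ ν, GrpObj (P ν)] (i : ∀ ν, P ν ⟶ A) (t : ∀ ν, P (ν + 1) ⟶ P ν)
    (hP : BTGrp.IsTatePro A p P i t)
    (h : ℕ) (G : BTGrp.ProBT p (Spec (CommRingCat.of R)) h)
    (e : ∀ ν, Red.bc (Spec.map (CommRingCat.ofHom (algebraMap R K))) (G.G ν) ≅ P ν)
    (he : ∀ ν, IsMonHom (e ν).hom)
    (het : ∀ ν, (SGA7.genFib R K).map (G.proj ν) ≫ (e ν).hom = (e (ν + 1)).hom ≫ t ν)
    (hei : ∀ ν, (SGA7.genFib R K).map (G.incl ν) ≫ (e (ν + 1)).hom ≫ i (ν + 1) = (e ν).hom ≫ i ν) :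
    SGA7.HasGoodReduction R K A := by
  have hens : HenselianLocalRing R := Groth.Agent.Sga3.H826.SmSection.henselianLocalRing_of_isAdicComplete R
  obtain ⟨H, _, _, e₁, he₁, hsm, hsep, hqc, hu, hAF, hirr⟩ := K469.Neut.main R K A N e₀ hN
  have h2 : IsIso e₁.hom.left := inferInstanceAs (IsIso ((Over.forget _).map e₁.hom))
  have h1 : ((SGA7.genFib R K).obj H).hom = e₁.hom.left ≫ A.hom := (Over.w e₁.hom).symm
  have hpr : IsProper ((SGA7.genFib R K).obj H).hom := by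
    rw [h1]
    infer_instance
  have hgi : GeometricallyIntegral ((SGA7.genFib R K).obj H).hom := by
    rw [h1]
    exact (MorphismProperty.cancel_left_of_respectsIso @GeometricallyIntegral _ _).2 inferInstance
  obtain ⟨hW, W, j, hj, hji, hjq⟩ := hFIN R K p H hirr hu
  obtain ⟨Φ, ⟨M⟩⟩ := exists_model G
  obtain ⟨Ψ, ⟨MW⟩⟩ := exists_model W
  have hF : Full R K p := full_of_NFull K543.TateFull.nFull R K p hp
  obtain ⟨g, hg⟩ : ∃ g : ℕ, topologicalKrullDim A.left = g := Groth.Agent.Sga7.H742.P1Dim.exists_dim A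
  have hg' : topologicalKrullDim ((SGA7.genFib R K).obj H).left = g := by
    rw [← hg]
    exact (IsHomeomorph.topologicalKrullDim_eq _ (Scheme.homeoOfIso (asIso e₁.hom.left)).isHomeomorph)
  have hh : h = 2 * g := K346.HtEq.height_eq hP e g hg
  obtain ⟨m, u, v, hm, huv, hvu⟩ := hPOLR R K p hp A P i t hP h G e he het hei Φ M hF
  have t1 := hPolDed R p h g m hh hm hp Φ u v huv hvu
  have t2 := hOM R K p hp g H hirr hg' hW W j hj hji hjq Ψ MW
  have hle : h ≤ hW := K346.Height.height_le hP e he het hei H hu hAF hirr e₁ W j hj hji hjq M MW hF (t2.trans t1)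
  exact hEND R K p A g hg H hirr hu e₁ he₁ hW W j hj (hh ▸ hle)

end K346.ViaAsm
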