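import Groth.Agent.TateLoc.K809.CaSmooth
import Groth.Agent.Etbase.HensSection
import Mathlib.AlgebraicGeometry.AlgClosed.Basic

/-!
# Torsors of smooth commutative groups over a strictly henselian base which are split by a finite flat covering

`cech`: a Čech 1-cocycle for a finite locally free covering `T' → Spec R`, `R` henselian with algebraically closed
residue field, with values in a smooth separated commutative group scheme `G` (finite sets of points in fibres contained
in affines) is a coboundary.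
-/

set_option autoImplicit false

universe u

open CategoryTheory CategoryTheory.Limits AlgebraicGeometry Opposite MonObj
open Groth.Agent.Etrest.FppfCoch Groth.Agent.Etrest.FppfMain K809.AffNhd

namespace K346.Cech

/-- étale neighbourhoods of the closed point of a strictly henselian local scheme split -/
theorem exists_section {R : Type u} [CommRing R] [HenselianLocalRing R] [IsAlgClosed (IsLocalRing.ResidueField R)]
    {V : Scheme.{u}} (f : V ⟶ Spec (CommRingCat.of R)) [Etale f]
    (h : IsLocalRing.closedPoint R ∈ Set.range f) : ∃ s : Spec (CommRingCat.of R) ⟶ V, s ≫ f = 𝟙 _ := by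
  let t : Spec (CommRingCat.of (IsLocalRing.ResidueField R)) ⟶ Spec (CommRingCat.of R) :=
    Spec.map (CommRingCat.ofHom (IsLocalRing.residue R))
  obtain ⟨v, hv⟩ := h
  have hne : Nonempty ↑(pullback f t) := by
    obtain ⟨z, -, -⟩ := Scheme.Pullback.exists_preimage_pullback (f := f) (g := t) v
      (IsLocalRing.closedPoint (IsLocalRing.ResidueField R)) (by
        rw [hv]
        exact (IsLocalRing.comap_closedPoint (IsLocalRing.residue R)).symm)
    exact ⟨z⟩
  have hlft : LocallyOfFiniteType (pullback.snd f t) := inferInstance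
  have hJ : JacobsonSpace ↑(pullback f t) := LocallyOfFiniteType.jacobsonSpace (pullback.snd f t)
  obtain ⟨x, hx⟩ : ∃ x : ↑(pullback f t), IsClosed {x} := by
    have h1 : (closedPoints ↑(pullback f t)).Nonempty := by
      by_contra h2
      rw [Set.not_nonempty_iff_eq_empty] at h2
      have h3 := closure_closedPoints (X := ↑(pullback f t))
      rw [h2, closure_empty] at h3
      exact Set.empty_ne_univ h3
    obtain ⟨x, hx⟩ := h1
    exact ⟨x, hx⟩
  obtain ⟨s, hs, -⟩ := Groth.Agent.Etbase.HensSection.exists_section f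
    (pointOfClosedPoint (pullback.snd f t) x hx ≫ pullback.fst f t) (by
      rw [Category.assoc, pullback.condition, pointOfClosedPoint_comp_assoc])
  exact ⟨s, hs⟩

/-- **Čech cocycles of smooth commutative groups over strictly henselian rings are coboundaries.** -/
theorem cech {R : Type u} [CommRing R] [HenselianLocalRing R] [IsAlgClosed (IsLocalRing.ResidueField R)]
    (G : Over (Spec (CommRingCat.of R))) [GrpObj G] [IsCommMonObj G] [Smooth G.hom] [IsSeparated G.hom] (hAF : AF G)
    (T' : Over (Spec (CommRingCat.of R))) [IsFinite T'.hom] [Flat T'.hom] [LocallyOfFinitePresentation T'.hom]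
    [Surjective T'.hom] (c : ∀ {T : Over (Spec (CommRingCat.of R))}, (T ⟶ T') → (T ⟶ T') → (T ⟶ G))
    (hc : ∀ {T T₁ : Over (Spec (CommRingCat.of R))} (f : T₁ ⟶ T) (x y : T ⟶ T'), f ≫ c x y = c (f ≫ x) (f ≫ y))
    (hz : ∀ {T : Over (Spec (CommRingCat.of R))} (x y z : T ⟶ T'), c x y * c y z = c x z) :
    ∃ a : T' ⟶ G, ∀ {T : Over (Spec (CommRingCat.of R))} (x y : T ⟶ T'), c x y = (x ≫ a)⁻¹ * (y ≫ a) := by
  let U : Over (Spec (CommRingCat.of R)) := Over.mk (𝟙 _)
  let p : T' ⟶ U := Over.homMk T'.hom (Category.comp_id _)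
  let pt : ∀ T : Over (Spec (CommRingCat.of R)), T ⟶ U := fun T => Over.homMk T.hom (Category.comp_id _)
  have hpt : ∀ {T : Over (Spec (CommRingCat.of R))} (a b : T ⟶ U), a = b := by
    intro T a b
    apply Over.OverMorphism.ext
    have h1 := Over.w a
    have h2 := Over.w b
    change a.left ≫ 𝟙 _ = _ at h1
    change b.left ≫ 𝟙 _ = _ at h2
    rw [Category.comp_id] at h1 h2
    rw [h1, h2]
  have hp : FLF p := ⟨inferInstanceAs (IsFinite T'.hom), inferInstanceAs (Flat T'.hom),
    inferInstanceAs (LocallyOfFinitePresentation T'.hom), inferInstanceAs (Surjective T'.hom)⟩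
  let c' : Fam (CGrpSh.ptsPre G) U T' 1 := fun W _ x => ULift.up (Additive.ofMul (c (x 0) (x 1)))
  have hc1 : IsCoch p (𝟙 U) c' := by
    intro W W' f a x _
    apply ULift.ext
    change Additive.ofMul (f ≫ c (x 0) (x 1)) = Additive.ofMul (c (f ≫ x 0) (f ≫ x 1))
    rw [hc]
  have hc2 : IsCocycle p (𝟙 U) c' := by
    intro W a x _
    rw [dS, Fin.sum_univ_three]
    have e0 : ((0 : Fin 3) : ℕ) = 0 := rfl
    have e1 : ((1 : Fin 3) : ℕ) = 1 := rfl
    have e2 : ((2 : Fin 3) : ℕ) = 2 := rfl
    rw [e0, e1, e2, pow_zero, pow_one, one_smul, neg_smul, one_smul, neg_one_sq, one_smul]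
    change (ULift.up (Additive.ofMul (c (x 1) (x 2))) + -ULift.up (Additive.ofMul (c (x 0) (x 2))) +
      ULift.up (Additive.ofMul (c (x 0) (x 1))) : ULift.{u + 1} (Additive (W ⟶ G))) = 0
    apply ULift.ext
    change Additive.ofMul (c (x 1) (x 2) * (c (x 0) (x 2))⁻¹ * c (x 0) (x 1)) = 0
    rw [← hz (x 0) (x 1) (x 2)]
    simp [mul_comm]
  obtain ⟨V, g, hg, ⟨v, hv⟩, b, hb, hbc⟩ := K809.CaSmooth.ca_ptsPre G hAF p (𝟙 U) hp 0 c' hc1 hc2
    (IsLocalRing.closedPoint R)
  obtain ⟨s, hs⟩ := exists_section (R := R) (V := V.left) g.left ⟨v, hv⟩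
  let σ : U ⟶ V := Over.homMk s (by
    have h1 : g.left ≫ 𝟙 _ = V.hom := Over.w g
    rw [Category.comp_id] at h1
    rw [← h1]
    exact hs)
  have hσ : σ ≫ g = 𝟙 U := hpt _ _
  let a : T' ⟶ G := (b T' (p ≫ σ) (fun _ => 𝟙 T')).down.toMul
  have ha : ∀ {T : Over (Spec (CommRingCat.of R))} (x : T ⟶ T'),
      b T (pt T ≫ σ) (fun _ => x) = ULift.up (Additive.ofMul (x ≫ a)) := by
    intro T x
    have h1 := hb x (p ≫ σ) (fun _ => 𝟙 T') (fun i => hpt _ _)
    have h2 : x ≫ p ≫ σ = pt T ≫ σ := by rw [← Category.assoc, hpt (x ≫ p) (pt T)]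
    have h3 : (fun _ : Fin 1 => x ≫ 𝟙 T') = fun _ => x := by funext _; exact Category.comp_id x
    rw [h2, h3] at h1
    rw [← h1]
    rfl
  refine ⟨a, ?_⟩
  intro T x y
  have h1 := hbc (pt T ≫ σ) (Fin.cons x (fun _ => y) : Fin 2 → (T ⟶ T')) (fun i => hpt _ _)
  rw [dS_zero_eq] at h1
  have h2 : (fun _ : Fin 1 => (Fin.cons x (fun _ => y) : Fin 2 → (T ⟶ T')) 1) = fun _ => y := rfl
  have h3 : (fun _ : Fin 1 => (Fin.cons x (fun _ => y) : Fin 2 → (T ⟶ T')) 0) = fun _ => x := rfl
  rw [h2, h3, ha, ha] at h1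
  have h4 : (y ≫ a) * (x ≫ a)⁻¹ = c x y := by
    have h5 := congrArg (fun z : ULift.{u + 1} (Additive (T ⟶ G)) => z.down.toMul) h1
    rw [← div_eq_mul_inv]
    exact h5
  rw [← h4, mul_comm]

end K346.Cech
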