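import Mathlib.RingTheory.LocalRing.ResidueField.Basic
import Mathlib.RingTheory.Ideal.GoingUp
import Mathlib.RingTheory.IntegralClosure.IsIntegralClosure.Basic
import Mathlib.RingTheory.TensorProduct.Basic
import Mathlib.FieldTheory.IsAlgClosed.Basic

/-!
# Finite domains over a henselian local ring with algebraically closed residue field, and their tensor squares
-/

set_option autoImplicit false
set_option linter.unusedSectionVars false

universe u

open TensorProduct IsLocalRing

namespace K346.LocAlg

section Basic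

variable {R : Type u} [CommRing R] [IsLocalRing R] (E : Type u) [CommRing E] [IsLocalRing E] [Algebra R E]

section

variable [Algebra.IsIntegral R E]

/-- integral algebras over a local ring which are local: the structure map is local. -/
theorem isLocalHom : IsLocalHom (algebraMap R E) := by
  refine ⟨fun a ha => ?_⟩
  by_contra h
  have h1 : (maximalIdeal E).comap (algebraMap R E) = maximalIdeal R := by
    refine IsLocalRing.eq_maximalIdeal ?_
    exact Ideal.isMaximal_comap_of_isIntegral_of_isMaximal' (algebraMap R E)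
      (algebraMap_isIntegral_iff.2 inferInstance) (maximalIdeal E)
  have h2 : a ∈ (maximalIdeal E).comap (algebraMap R E) := by
    rw [h1]
    exact (IsLocalRing.mem_maximalIdeal a).2 h
  exact (IsLocalRing.mem_maximalIdeal _).1 h2 ha

/-- elements are congruent to elements of the base -/
theorem exists_sub_mem [IsAlgClosed (ResidueField R)] (e : E) : ∃ r : R, e - algebraMap R E r ∈ maximalIdeal E := by
  have := isLocalHom (R := R) E
  have hint : Algebra.IsIntegral (ResidueField R) (ResidueField E) := by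
    refine ⟨fun x => ?_⟩
    obtain ⟨y, rfl⟩ := IsLocalRing.residue_surjective x
    have h1 : IsIntegral R y := Algebra.IsIntegral.isIntegral y
    have h2 : IsIntegral R (residue E y) := h1.map (IsScalarTower.toAlgHom R E (ResidueField E))
    exact h2.tower_top
  have hs : Function.Bijective (algebraMap (ResidueField R) (ResidueField E)) :=
    IsAlgClosed.algebraMap_bijective_of_isIntegral
  obtain ⟨x, hx⟩ := hs.2 (residue E e)
  obtain ⟨r, rfl⟩ := IsLocalRing.residue_surjective x
  refine ⟨r, ?_⟩
  rw [← IsLocalRing.residue_eq_zero_iff, map_sub, sub_eq_zero, ← hx]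
  rfl

end

variable {E} [Module.Finite R E]

/-- algebra maps to integral algebras are local -/
theorem mem_of_mem {F : Type u} [CommRing F] [Algebra R F] [Module.Finite R F] (n : Ideal F) [n.IsMaximal] (f : E →ₐ[R] F)
    (x : E) (hx : x ∈ maximalIdeal E) : f x ∈ n := by
  have h1 : n.comap (f : E →+* F) = maximalIdeal E := by
    refine IsLocalRing.eq_maximalIdeal ?_
    refine Ideal.isMaximal_comap_of_isIntegral_of_isMaximal' _ ?_ _
    have h2 : ((f : E →+* F).comp (algebraMap R E)).IsIntegral := by
      have h3 : (f : E →+* F).comp (algebraMap R E) = algebraMap R F := RingHom.ext fun r => f.commutes r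
      rw [h3, algebraMap_isIntegral_iff]
      infer_instance
    exact RingHom.IsIntegral.tower_top _ _ h2
  rw [← h1] at hx
  exact hx

/-- elements of the tensor square are congruent to elements of the base -/
theorem exists_sub_mem_tensor [IsAlgClosed (ResidueField R)] (s : E ⊗[R] E) :
    ∃ r : R, ∀ I : Ideal (E ⊗[R] E), (∀ e ∈ maximalIdeal E, e ⊗ₜ[R] (1 : E) ∈ I) →
      (∀ e ∈ maximalIdeal E, (1 : E) ⊗ₜ[R] e ∈ I) → s - algebraMap R (E ⊗[R] E) r ∈ I := by
  induction s using TensorProduct.induction_on with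
  | zero => exact ⟨0, fun I _ _ => by simp⟩
  | tmul e f =>
    obtain ⟨r, hr⟩ := exists_sub_mem (R := R) E e
    obtain ⟨t, ht⟩ := exists_sub_mem (R := R) E f
    refine ⟨r * t, fun I h1 h2 => ?_⟩
    have h3 : e ⊗ₜ[R] f - algebraMap R (E ⊗[R] E) (r * t) =
        ((e - algebraMap R E r) ⊗ₜ[R] 1) * (1 ⊗ₜ[R] f) + (algebraMap R E r ⊗ₜ[R] 1) *
          (1 ⊗ₜ[R] (f - algebraMap R E t)) := by
      rw [Algebra.TensorProduct.tmul_mul_tmul, Algebra.TensorProduct.tmul_mul_tmul, mul_one, one_mul, one_mul, mul_one,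
        sub_tmul, tmul_sub, Algebra.TensorProduct.algebraMap_apply]
      rw [map_mul, sub_add_sub_cancel]
      congr 1
      rw [Algebra.algebraMap_eq_smul_one t, tmul_smul, mul_smul_comm, mul_one, smul_tmul']
    rw [h3]
    exact I.add_mem (I.mul_mem_right _ (h1 _ hr)) (I.mul_mem_left _ (h2 _ ht))
  | add s t hs ht =>
    obtain ⟨r, hr⟩ := hs
    obtain ⟨r', hr'⟩ := ht
    refine ⟨r + r', fun I h1 h2 => ?_⟩
    rw [map_add, add_sub_add_comm]
    exact I.add_mem (hr I h1 h2) (hr' I h1 h2)

/-- the tensor square is local -/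
theorem isLocalRing_tensor [IsAlgClosed (ResidueField R)] : IsLocalRing (E ⊗[R] E) := by
  have hloc := isLocalHom (R := R) E
  let ρ : E ⊗[R] E →ₐ[R] ResidueField E := Algebra.TensorProduct.lift (IsScalarTower.toAlgHom R E (ResidueField E))
    (IsScalarTower.toAlgHom R E (ResidueField E)) fun _ _ => Commute.all _ _
  have hρ : Function.Surjective ρ := by
    intro x
    obtain ⟨y, rfl⟩ := IsLocalRing.residue_surjective x
    refine ⟨y ⊗ₜ 1, ?_⟩
    simp [ρ]
  have hm : (RingHom.ker ρ).IsMaximal := RingHom.ker_isMaximal_of_surjective ρ hρ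
  refine IsLocalRing.of_unique_max_ideal ⟨RingHom.ker ρ, hm, fun n hn => ?_⟩
  have hn' : n.IsMaximal := hn
  have e1 : ∀ e ∈ maximalIdeal E, e ⊗ₜ[R] (1 : E) ∈ n := fun e he =>
    mem_of_mem (R := R) n Algebra.TensorProduct.includeLeft e he
  have e2 : ∀ e ∈ maximalIdeal E, (1 : E) ⊗ₜ[R] e ∈ n := fun e he =>
    mem_of_mem (R := R) n Algebra.TensorProduct.includeRight e he
  have hle : RingHom.ker ρ ≤ n := by
    intro s hs
    obtain ⟨r, hr⟩ := exists_sub_mem_tensor (R := R) s
    have h1 := hr (RingHom.ker ρ) (fun e he => by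
      change ρ (e ⊗ₜ 1) = 0
      simp only [ρ, Algebra.TensorProduct.lift_tmul, map_one, mul_one]
      exact (IsLocalRing.residue_eq_zero_iff e).2 he) (fun e he => by
      change ρ (1 ⊗ₜ e) = 0
      simp only [ρ, Algebra.TensorProduct.lift_tmul, map_one, one_mul]
      exact (IsLocalRing.residue_eq_zero_iff e).2 he)
    have h2 : ρ (algebraMap R _ r) = 0 := by
      have h3 : ρ (s - algebraMap R _ r) = 0 := h1
      rw [map_sub, show ρ s = 0 from hs, zero_sub, neg_eq_zero] at h3
      exact h3
    rw [AlgHom.commutes, IsScalarTower.algebraMap_apply R E (ResidueField E)] at h2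
    have h3 : algebraMap R E r ∈ maximalIdeal E := (IsLocalRing.residue_eq_zero_iff _).1 h2
    have h4 : algebraMap R (E ⊗[R] E) r ∈ n := by
      rw [Algebra.TensorProduct.algebraMap_apply]
      exact e1 _ h3
    have h5 := n.add_mem (hr n e1 e2) h4
    rwa [sub_add_cancel] at h5
  exact (hm.eq_of_le hn'.ne_top hle).symm

theorem isLocalHom_tensor [IsAlgClosed (ResidueField R)] [IsLocalRing (E ⊗[R] E)] :
    IsLocalHom (algebraMap R (E ⊗[R] E)) :=
  isLocalHom (R := R) (E ⊗[R] E)

/-- the two inclusions agree at the closed point -/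
theorem incl_sub_mem [IsAlgClosed (ResidueField R)] [IsLocalRing (E ⊗[R] E)] (e : E) :
    e ⊗ₜ[R] (1 : E) - (1 : E) ⊗ₜ[R] e ∈ maximalIdeal (E ⊗[R] E) := by
  obtain ⟨r, hr⟩ := exists_sub_mem (R := R) E e
  have hm : ∀ (f : E →ₐ[R] E ⊗[R] E) (x : E), x ∈ maximalIdeal E → f x ∈ maximalIdeal (E ⊗[R] E) := fun f x hx =>
    mem_of_mem (R := R) _ f x hx
  have h1 := hm Algebra.TensorProduct.includeLeft _ hr
  have h2 := hm Algebra.TensorProduct.includeRight _ hr
  rw [map_sub, AlgHom.commutes] at h1 h2
  have h3 := (maximalIdeal (E ⊗[R] E)).sub_mem h1 h2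
  rw [sub_sub_sub_cancel_right] at h3
  exact h3

end Basic

end K346.LocAlg
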