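import Groth.Agent.SGA7.K346.Conn
import Groth.Agent.SGA7.K346.LocAlg
import Groth.Agent.Books.AffBridge

/-!
# The difference of the two pull backs of a point over a finite local extension lies in the connected part

`exists_cocyc`: `q : B → C` a surjective bialgebra map with `trI C ≤ trI B`, `E` a finite local `R`-algebra, `ξ` a point of
`Spec B` with values in `E`; for two morphisms `u v : T ⟶ Spec E` over `Spec R` the point `(u ≫ ξ)⁻¹ * (v ≫ ξ)` lies in the
closed subgroup `Spec C`.
-/

set_option autoImplicit false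
set_option linter.unusedSectionVars false
universe u

open CategoryTheory CategoryTheory.Limits AlgebraicGeometry MonoidalCategory CartesianMonoidalCategory MonObj
open TensorProduct IsLocalRing Groth.Agent.Books.AffBridge

namespace K346.Cocyc

section pair

variable {R : Type u} [CommRing R] {E F : Type u} [CommRing E] [Algebra R E] [CommRing F] [Algebra R F]

/-- pairs of points -/
theorem exists_pair {T : Over (Spec (CommRingCat.of R))} (u : T ⟶ SpecOver R E) (v : T ⟶ SpecOver R F) :
    ∃ w : T ⟶ SpecOver R (E ⊗[R] F), w ≫ specMap R (Algebra.TensorProduct.includeLeft) = u ∧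
      w ≫ specMap R (Algebra.TensorProduct.includeRight) = v := by
  have h1 : u.left ≫ Spec.map (CommRingCat.ofHom (algebraMap R E)) = v.left ≫ Spec.map (CommRingCat.ofHom (algebraMap R F)) :=
    (Over.w u).trans (Over.w v).symm
  have hpb : IsPullback (Spec.map (CommRingCat.ofHom (Algebra.TensorProduct.includeLeft : E →ₐ[R] E ⊗[R] F).toRingHom))
      (Spec.map (CommRingCat.ofHom (Algebra.TensorProduct.includeRight : F →ₐ[R] E ⊗[R] F).toRingHom))
      (Spec.map (CommRingCat.ofHom (algebraMap R E))) (Spec.map (CommRingCat.ofHom (algebraMap R F))) :=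
    isPullback_SpecMap_of_isPushout _ _ _ _ (CommRingCat.isPushout_tensorProduct R E F)
  refine ⟨Over.homMk (hpb.lift _ _ h1) ?_, ?_, ?_⟩
  · have h2 : (SpecOver R (E ⊗[R] F)).hom =
        Spec.map (CommRingCat.ofHom (Algebra.TensorProduct.includeLeft : E →ₐ[R] E ⊗[R] F).toRingHom) ≫
          Spec.map (CommRingCat.ofHom (algebraMap R E)) := by
      rw [← Spec.map_comp]
      change Spec.map _ = Spec.map _
      congr 1
    rw [h2]
    exact (hpb.lift_fst_assoc _ _ h1 _).trans (Over.w u)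
  · ext1
    exact hpb.lift_fst _ _ _
  · ext1
    exact hpb.lift_snd _ _ _

end pair

section main

variable {R : Type u} [CommRing R] [IsDomain R] [IsDiscreteValuationRing R] [CharZero R]
  [IsAlgClosed (IsLocalRing.ResidueField R)]
  {B : Type u} [CommRing B] [HopfAlgebra R B] [Coalgebra.IsCocomm R B] [Module.Finite R B] [Module.Free R B]
  {C : Type u} [CommRing C] [HopfAlgebra R C] [Coalgebra.IsCocomm R C] [Module.Finite R C] [Module.Free R C]
  (q : B →ₐc[R] C) (hq : Function.Surjective q)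
  (htr : (LinearMap.range (Algebra.trace R C) : Ideal R) ≤ LinearMap.range (Algebra.trace R B))
  {E : Type u} [CommRing E] [IsLocalRing E] [Algebra R E] [Module.Finite R E]

section
variable {S : Type u} [CommRing S] [IsLocalRing S] [Algebra R S] [IsLocalHom (algebraMap R S)]

theorem residue_comp (i₁ i₂ : E →ₐ[R] S) (h : ∀ e, i₁ e - i₂ e ∈ maximalIdeal S) :
    (IsScalarTower.toAlgHom R S (ResidueField S)).comp i₁ = (IsScalarTower.toAlgHom R S (ResidueField S)).comp i₂ := by
  apply AlgHom.ext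
  intro e
  change IsLocalRing.residue S (i₁ e) = IsLocalRing.residue S (i₂ e)
  rw [← sub_eq_zero, ← map_sub, IsLocalRing.residue_eq_zero_iff]
  exact h e

theorem comp_eq_one {Z : Over (Spec (CommRingCat.of R))} [GrpObj Z] {k S' : Over (Spec (CommRingCat.of R))}
    {E' : Over (Spec (CommRingCat.of R))} (ρ : k ⟶ S') (a b : S' ⟶ E') (h : ρ ≫ a = ρ ≫ b) (ξ : E' ⟶ Z) :
    ρ ≫ ((a ≫ ξ)⁻¹ * (b ≫ ξ)) = 1 := by
  rw [MonObj.comp_mul, GrpObj.comp_inv, ← Category.assoc, ← Category.assoc, h, inv_mul_cancel]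

theorem counit_mem (χ : B →ₐ[R] S)
    (h : specMap R (IsScalarTower.toAlgHom R S (ResidueField S)) ≫ specMap R χ = 1) (a : B) :
    χ a - algebraMap R S (Coalgebra.counit (R := R) a) ∈ maximalIdeal S := by
  have h3 : specMap R ((IsScalarTower.toAlgHom R S (ResidueField S)).comp χ) =
      specMap R (1 : WithConv (B →ₐ[R] ResidueField S)).ofConv := by
    rw [specMap_comp, specMap_one]
    exact h
  have h4 := specMap_injective R h3
  have h5 : IsLocalRing.residue S (χ a) = algebraMap R (ResidueField S) (Coalgebra.counit (R := R) a) :=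
    DFunLike.congr_fun h4 a
  rw [← IsLocalRing.residue_eq_zero_iff, map_sub, h5, sub_eq_zero]
  rfl

include hq htr in
theorem exists_aux (i₁ i₂ : E →ₐ[R] S) (h : ∀ e, i₁ e - i₂ e ∈ maximalIdeal S) (ξ : SpecOver R E ⟶ SpecOver R B) :
    ∃ y : SpecOver R S ⟶ SpecOver R C,
      y ≫ specMap R (q : B →ₐ[R] C) = (specMap R i₁ ≫ ξ)⁻¹ * (specMap R i₂ ≫ ξ) := by
  obtain ⟨χ, hχ⟩ : ∃ χ : B →ₐ[R] S, specMap R χ = (specMap R i₁ ≫ ξ)⁻¹ * (specMap R i₂ ≫ ξ) :=
    ⟨specPreimage R _, specMap_specPreimage R _⟩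
  obtain ⟨y, hy⟩ := K346.Conn.exists_factor q hq htr χ (counit_mem χ (by
    rw [hχ]
    refine comp_eq_one _ _ _ ?_ ξ
    rw [← specMap_comp, ← specMap_comp, residue_comp i₁ i₂ h]))
  refine ⟨specMap R y, ?_⟩
  rw [← hχ, ← specMap_comp]
  congr 1
  apply AlgHom.ext
  intro a
  exact hy a

end

include hq htr in
theorem exists_cocyc (ξ : SpecOver R E ⟶ SpecOver R B) {T : Over (Spec (CommRingCat.of R))} (u v : T ⟶ SpecOver R E) :
    ∃ y : T ⟶ SpecOver R C, y ≫ specMap R (q : B →ₐ[R] C) = (u ≫ ξ)⁻¹ * (v ≫ ξ) := by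
  have hS : IsLocalRing (E ⊗[R] E) := K346.LocAlg.isLocalRing_tensor
  have hSl : IsLocalHom (algebraMap R (E ⊗[R] E)) := K346.LocAlg.isLocalHom_tensor
  obtain ⟨w, hw1, hw2⟩ := exists_pair u v
  obtain ⟨y, hy⟩ := exists_aux q hq htr (S := E ⊗[R] E) Algebra.TensorProduct.includeLeft
    Algebra.TensorProduct.includeRight (fun e => K346.LocAlg.incl_sub_mem e) ξ
  refine ⟨w ≫ y, ?_⟩
  rw [Category.assoc, hy, MonObj.comp_mul, GrpObj.comp_inv, ← Category.assoc, ← Category.assoc, hw1, hw2]

end main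

end K346.Cocyc
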