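import Groth.Agent.SGA7.K497.TrInt2
import Groth.Agent.SGA7.K411.Sat
import Groth.Agent.SGA7.K564.Tate.Iface
import Mathlib.RingTheory.Artinian.Module
import Mathlib.RingTheory.Nakayama

/-!
# Comparison of finite free Hopf algebras with the same trace ideal

`g : A → C` surjective bialgebra map of finite free commutative cocommutative Hopf algebras over a discrete valuation
ring, `trI C ≤ trI A`: near the unit section `g` is an isomorphism.

* `exists_ann` : an element `r ∈ A` with `ε(r) = 1` modulo the maximal ideal which kills `ker g`;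
* `exists_factor` : points of `A` in local algebras congruent to the unit factor through `C`.
-/

set_option autoImplicit false
universe u v w

open TensorProduct Coalgebra K497.TrInt K564.Tate

namespace K346.Conn

section aug

variable {R : Type u} [CommRing R] [IsDomain R] [IsDiscreteValuationRing R] {A : Type v} [CommRing A] [Bialgebra R A]

/-- the maximal ideal of the unit of the special fibre. -/
noncomputable def M (R : Type u) [CommRing R] [IsDomain R] [IsDiscreteValuationRing R] (A : Type v) [CommRing A]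
    [Bialgebra R A] : Ideal A := (IsLocalRing.maximalIdeal R).comap (Bialgebra.counitAlgHom R A)

theorem mem_M {a : A} : a ∈ M R A ↔ counit (R := R) a ∈ IsLocalRing.maximalIdeal R := Iff.rfl

theorem algebraMap_mem_M {r : R} (hr : r ∈ IsLocalRing.maximalIdeal R) : algebraMap R A r ∈ M R A := by
  rw [mem_M, Bialgebra.counit_algebraMap]
  exact hr

theorem exists_pow [Module.Finite R A] : ∃ (N : ℕ) (a : A), counit (R := R) a - 1 ∈ IsLocalRing.maximalIdeal R ∧
    ∀ y ∈ (M R A) ^ N, a * y ∈ (IsLocalRing.maximalIdeal R).map (algebraMap R A) := by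
  have hnA : IsNoetherianRing A := IsNoetherianRing.of_finite R A
  let P : Ideal A := (IsLocalRing.maximalIdeal R).map (algebraMap R A)
  have hPM : P ≤ M R A := Ideal.map_le_iff_le_comap.2 fun r hr => algebraMap_mem_M hr
  let q := Ideal.Quotient.mk P
  have hart : IsArtinianRing (A ⧸ P) := by
    have h1 : Module.Finite (R ⧸ IsLocalRing.maximalIdeal R)
        (A ⧸ (IsLocalRing.maximalIdeal R).map (algebraMap R A)) :=
      Module.Finite.of_restrictScalars_finite R (R ⧸ IsLocalRing.maximalIdeal R)
        (A ⧸ (IsLocalRing.maximalIdeal R).map (algebraMap R A))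
    have h2 : IsArtinianRing (R ⧸ IsLocalRing.maximalIdeal R) :=
      DivisionRing.instIsArtinianRing (K := IsLocalRing.ResidueField R)
    exact IsArtinianRing.of_finite (R ⧸ IsLocalRing.maximalIdeal R)
      (A ⧸ (IsLocalRing.maximalIdeal R).map (algebraMap R A))
  let I : Ideal (A ⧸ P) := (M R A).map q
  obtain ⟨N, hN⟩ := IsArtinian.monotone_stabilizes (R := A ⧸ P) (M := A ⧸ P)
    ⟨fun n => OrderDual.toDual (I ^ n), fun a b hab => Ideal.pow_le_pow_right hab⟩
  have h1 : I ^ N ≤ I • I ^ N := by
    have := hN (N + 1) (Nat.le_succ N)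
    have h2 : I ^ N = I ^ (N + 1) := this
    rw [smul_eq_mul, ← pow_succ', ← h2]
  obtain ⟨r, hr, hr2⟩ := Submodule.exists_sub_one_mem_and_smul_eq_zero_of_fg_of_le_smul I (I ^ N)
    ((isNoetherianRing_iff_ideal_fg _).1 inferInstance _) h1
  obtain ⟨a, rfl⟩ := Ideal.Quotient.mk_surjective r
  refine ⟨N, a, ?_, fun y hy => ?_⟩
  · have h3 : a - 1 ∈ M R A := by
      have h4 : q (a - 1) ∈ I := by rw [map_sub, map_one]; exact hr
      obtain ⟨m, hm, hm2⟩ := (Ideal.mem_map_iff_of_surjective q Ideal.Quotient.mk_surjective).1 h4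
      have h5 : m - (a - 1) ∈ P := Ideal.Quotient.eq.1 hm2
      have h6 : a - 1 = m - (m - (a - 1)) := by ring
      rw [h6]
      exact (M R A).sub_mem hm (hPM h5)
    rw [mem_M, map_sub, Bialgebra.counit_one] at h3
    exact h3
  · have h3 := hr2 (q y) (by
      rw [← Ideal.map_pow]
      exact Ideal.mem_map_of_mem q hy)
    rw [smul_eq_mul, ← map_mul] at h3
    exact Ideal.Quotient.eq_zero_iff_mem.1 h3

/-- an element nonzero modulo `π` near the unit has a multiple which is nonzero modulo `π` and killed by `M` modulo `π`. -/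
theorem exists_socle [Module.Finite R A] {b : A}
    (hb : ∀ a : A, counit (R := R) a - 1 ∈ IsLocalRing.maximalIdeal R →
      a * b ∉ (IsLocalRing.maximalIdeal R).map (algebraMap R A)) :
    ∃ y : A, y * b ∉ (IsLocalRing.maximalIdeal R).map (algebraMap R A) ∧
      ∀ x ∈ M R A, x * (y * b) ∈ (IsLocalRing.maximalIdeal R).map (algebraMap R A) := by
  obtain ⟨N, a, ha, hN⟩ := exists_pow (R := R) (A := A)
  let P : Ideal A := (IsLocalRing.maximalIdeal R).map (algebraMap R A)
  by_contra hcon
  push Not at hcon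
  have key : ∀ n, ∃ y ∈ (M R A) ^ n, a * y * b ∉ P := by
    intro n
    induction n with
    | zero => exact ⟨1, by simp, by rw [mul_one]; exact hb a ha⟩
    | succ n ih =>
      obtain ⟨y, hy, hy2⟩ := ih
      obtain ⟨x, hx, hx2⟩ := hcon (a * y) hy2
      refine ⟨x * y, ?_, ?_⟩
      · rw [pow_succ']
        exact Ideal.mul_mem_mul hx hy
      · rw [show a * (x * y) * b = x * (a * y * b) by ring]
        exact hx2
  obtain ⟨y, hy, hy2⟩ := key N
  exact hy2 (P.mul_mem_right b (hN y hy))

end aug

section main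

theorem mem_map_iff {R : Type u} [CommRing R] {B : Type v} [CommRing B] [Algebra R B] {ι : Type*}
    (e : Module.Basis ι R B) (J : Ideal R) (x : B) :
    x ∈ J.map (algebraMap R B) ↔ ∀ i, e.repr x i ∈ J := by
  constructor
  · intro hx i
    have h1 : x ∈ (J • ⊤ : Submodule R B) := by
      rw [Ideal.smul_top_eq_map]
      exact hx
    refine Submodule.smul_induction_on h1 (fun r hr n _ => ?_) (fun a b ha hb => ?_)
    · rw [map_smul, Finsupp.smul_apply, smul_eq_mul]
      exact J.mul_mem_right _ hr
    · rw [map_add, Finsupp.add_apply]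
      exact J.add_mem ha hb
  · intro h
    rw [← e.linearCombination_repr x, Finsupp.linearCombination_apply, Finsupp.sum]
    refine Ideal.sum_mem _ fun i _ => ?_
    rw [Algebra.smul_def]
    exact Ideal.mul_mem_right _ _ (Ideal.mem_map_of_mem _ (h i))

variable {R : Type u} [CommRing R] [IsDomain R] [IsDiscreteValuationRing R] {A : Type v} [CommRing A] [HopfAlgebra R A]
  {C : Type w} [CommRing C] [HopfAlgebra R C] [Module.Finite R A] [Module.Free R A] [Module.Finite R C]
  [Module.Free R C]

/-- Near the unit section the kernel of `g` is divisible by the uniformizer. -/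
theorem exists_mem (g : A →ₐc[R] C) {l : A →ₗ[R] R} {t : A} (h : IsInt l t) {l' : C →ₗ[R] R} {t' : C}
    (h' : IsInt l' t') (hu : IsUnit (l' (g t))) (ht : g t = l' (g t) • t') {b : A} (hb : g b = 0) :
    ∃ a : A, counit (R := R) a - 1 ∈ IsLocalRing.maximalIdeal R ∧
      a * b ∈ (IsLocalRing.maximalIdeal R).map (algebraMap R A) := by
  by_contra hcon
  push Not at hcon
  obtain ⟨y, hy, hy2⟩ := exists_socle hcon
  set s := y * b with hs
  have hgs : g s = 0 := by rw [hs, map_mul, hb, mul_zero]
  set m := IsLocalRing.maximalIdeal R with hm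
  let e := Module.Free.chooseBasis R A
  let e' := Module.Free.chooseBasis R C
  -- `s` is an integral modulo `m`
  have hx : ∀ x : A, x * s - counit (R := R) x • s ∈ m.map (algebraMap R A) := by
    intro x
    have h1 : x - algebraMap R A (counit (R := R) x) ∈ M R A := by
      rw [mem_M, map_sub, Bialgebra.counit_algebraMap, sub_self]
      exact zero_mem _
    have h2 := hy2 _ h1
    rwa [sub_mul, ← Algebra.smul_def] at h2
  have hl : ∀ z ∈ m.map (algebraMap R A), l z ∈ m := by
    intro z hz
    have h1 := (mem_map_iff e m z).1 hz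
    rw [← e.sum_repr z, map_sum]
    refine m.sum_mem fun i _ => ?_
    rw [map_smul, smul_eq_mul]
    exact m.mul_mem_right _ (h1 i)
  have h1 : s - l s • t ∈ m.map (algebraMap R A) := by
    rw [mem_map_iff e]
    intro i
    refine repr_mem e m h.inv h.one (fun x => ?_) i
    have h2 : l (x * (s - l s • t)) = l (x * s - counit (R := R) x • s) := by
      rw [mul_sub, mul_smul_comm, h.mul, map_sub, map_sub, map_smul, map_smul, map_smul, h.one]
      simp only [smul_eq_mul]
      ring
    rw [h2]
    exact hl _ (hx x)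
  have h2 : l s ∉ m := by
    intro h3
    apply hy
    have h4 : s = (s - l s • t) + l s • t := by ring
    rw [h4]
    refine Ideal.add_mem _ h1 ?_
    rw [Algebra.smul_def]
    exact Ideal.mul_mem_right _ _ (Ideal.mem_map_of_mem _ h3)
  have h3 : g (s - l s • t) ∈ m.map (algebraMap R C) := by
    have h4 := Ideal.mem_map_of_mem ((g : A →ₐ[R] C) : A →+* C) h1
    rw [Ideal.map_map] at h4
    have h5 : ((g : A →ₐ[R] C) : A →+* C).comp (algebraMap R A) = algebraMap R C := (g : A →ₐ[R] C).comp_algebraMap
    rw [h5] at h4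
    exact h4
  rw [map_sub, hgs, zero_sub, map_smul, ht, smul_smul] at h3
  have h4 : l' (-((l s * l' (g t)) • t')) ∈ m := by
    have h5 := (mem_map_iff e' m _).1 h3
    rw [← e'.sum_repr (-((l s * l' (g t)) • t')), map_sum]
    refine m.sum_mem fun i _ => ?_
    rw [map_smul, smul_eq_mul]
    exact m.mul_mem_right _ (h5 i)
  rw [map_neg, map_smul, h'.one, smul_eq_mul, mul_one] at h4
  have h5 := neg_mem_iff.1 h4
  rcases (IsLocalRing.maximalIdeal.isMaximal R).isPrime.mem_or_mem h5 with h6 | h6
  · exact h2 h6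
  · exact (IsLocalRing.mem_maximalIdeal _).1 h6 hu

/-- `ker g` is killed by an element which is `1` at the unit of the special fibre. -/
theorem exists_ann_aux (g : A →ₐc[R] C) {l : A →ₗ[R] R} {t : A} (h : IsInt l t) {l' : C →ₗ[R] R} {t' : C}
    (h' : IsInt l' t') (hu : IsUnit (l' (g t))) (ht : g t = l' (g t) • t') :
    ∃ r : A, counit (R := R) r - 1 ∈ IsLocalRing.maximalIdeal R ∧ ∀ b, g b = 0 → r * b = 0 := by
  have hnA : IsNoetherianRing A := IsNoetherianRing.of_finite R A
  let J : Ideal A := RingHom.ker ((g : A →ₐ[R] C) : A →+* C)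
  have hJ : ∀ b, b ∈ J ↔ g b = 0 := fun b => Iff.rfl
  obtain ⟨π, hπ⟩ := IsDiscreteValuationRing.exists_irreducible R
  have hmax : IsLocalRing.maximalIdeal R = Ideal.span {π} := hπ.maximalIdeal_eq
  have hle : J ≤ (M R A) • J := by
    intro b hb
    obtain ⟨a, ha, hab⟩ := exists_mem g h h' hu ht ((hJ b).1 hb)
    rw [hmax, Ideal.map_span, Set.image_singleton, Ideal.mem_span_singleton'] at hab
    obtain ⟨c, hc⟩ := hab
    have h1 : g c = 0 := by
      have h2 : π • g c = 0 := by
        rw [← map_smul, Algebra.smul_def, mul_comm, hc, map_mul, (hJ b).1 hb, mul_zero]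
      exact (smul_eq_zero.1 h2).resolve_left hπ.ne_zero
    have h3 : b = -(a - 1) * b + algebraMap R A π * c := by
      rw [mul_comm (algebraMap R A π) c, hc]; ring
    rw [h3]
    refine Submodule.add_mem _ (Submodule.smul_mem_smul ?_ hb) (Submodule.smul_mem_smul ?_ ((hJ c).2 h1))
    · rw [neg_mem_iff, mem_M, map_sub, Bialgebra.counit_one]
      exact ha
    · exact algebraMap_mem_M (by rw [hmax]; exact Ideal.mem_span_singleton_self π)
  obtain ⟨r, hr, hr2⟩ := Submodule.exists_sub_one_mem_and_smul_eq_zero_of_fg_of_le_smul (M R A) J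
    ((isNoetherianRing_iff_ideal_fg _).1 inferInstance _) hle
  refine ⟨r, ?_, fun b hb => hr2 b ((hJ b).2 hb)⟩
  rw [mem_M, map_sub, Bialgebra.counit_one] at hr
  exact hr

variable [Coalgebra.IsCocomm R A] [Coalgebra.IsCocomm R C]

omit [Coalgebra.IsCocomm R A] [Coalgebra.IsCocomm R C] [Module.Finite R A] [Module.Free R A] [Module.Finite R C] in
theorem map_int (g : A →ₐc[R] C) (hg : Function.Surjective g) {l : A →ₗ[R] R} {t : A} (h : IsInt l t)
    {l' : C →ₗ[R] R} {t' : C} (h' : IsInt l' t') : g t = l' (g t) • t' := by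
  refine h'.eq_smul_of fun c => ?_
  obtain ⟨a, rfl⟩ := hg c
  rw [← map_mul, h.mul, map_smul, CoalgHomClass.counit_comp_apply]

theorem finrank_ne [CharZero R] (B : Type v) [CommRing B] [HopfAlgebra R B] [Module.Finite R B] [Module.Free R B] :
    ((Module.finrank R B : ℕ) : R) ≠ 0 := by
  have hB : Nontrivial B := by
    by_contra h
    rw [not_nontrivial_iff_subsingleton] at h
    have h1 : (1 : R) = 0 := by
      have h2 := congrArg (Coalgebra.counit (R := R)) (Subsingleton.elim (1 : B) 0)
      rwa [Bialgebra.counit_one, map_zero] at h2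
    exact one_ne_zero h1
  rw [Nat.cast_ne_zero]
  exact Module.finrank_pos.ne'

/-- Trace ideals and surjective bialgebra maps. -/
theorem trI_le [CharZero R] (g : A →ₐc[R] C) (hg : Function.Surjective g) :
    (LinearMap.range (Algebra.trace R A) : Ideal R) ≤ LinearMap.range (Algebra.trace R C) := by
  obtain ⟨l, t, h⟩ := exists_isInt (R := R) (B := A) (finrank_ne A)
  obtain ⟨l', t', h'⟩ := exists_isInt (R := R) (B := C) (finrank_ne C)
  rw [h.range_trace, h'.range_trace, Ideal.span_singleton_le_span_singleton]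
  have h1 := congrArg (Coalgebra.counit (R := R)) (map_int g hg h h')
  rw [CoalgHomClass.counit_comp_apply, map_smul, smul_eq_mul] at h1
  exact ⟨l' (g t), by rw [h1, mul_comm]⟩

/-- If the trace ideals agree then near the unit of the special fibre `g` is injective. -/
theorem exists_ann [CharZero R] (g : A →ₐc[R] C) (hg : Function.Surjective g)
    (htr : (LinearMap.range (Algebra.trace R C) : Ideal R) ≤ LinearMap.range (Algebra.trace R A)) :
    ∃ r : A, counit (R := R) r - 1 ∈ IsLocalRing.maximalIdeal R ∧ ∀ b, g b = 0 → r * b = 0 := by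
  obtain ⟨l, t, h⟩ := exists_isInt (R := R) (B := A) (finrank_ne A)
  obtain ⟨l', t', h'⟩ := exists_isInt (R := R) (B := C) (finrank_ne C)
  refine exists_ann_aux g h h' ?_ (map_int g hg h h')
  rw [h.range_trace, h'.range_trace, Ideal.span_singleton_le_span_singleton] at htr
  obtain ⟨c, hc⟩ := htr
  have h1 := congrArg (Coalgebra.counit (R := R)) (map_int g hg h h')
  rw [CoalgHomClass.counit_comp_apply, map_smul, smul_eq_mul] at h1
  have h2 : counit (R := R) t' ≠ 0 := by
    intro h3
    have h4 : (LinearMap.range (Algebra.trace R C) : Ideal R) = ⊥ := by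
      rw [h'.range_trace, h3, Ideal.span_singleton_eq_bot]
    have h5 : ((Module.finrank R C : ℕ) : R) ∈ (LinearMap.range (Algebra.trace R C) : Ideal R) := by
      refine ⟨1, ?_⟩
      rw [Algebra.trace_apply, map_one, LinearMap.trace_one]
    rw [h4, Ideal.mem_bot] at h5
    exact finrank_ne C h5
  rw [h1] at hc
  have h3 : l' (g t) * c = 1 := by
    apply mul_left_cancel₀ h2
    rw [mul_one]
    conv_rhs => rw [hc]
    ring
  exact IsUnit.of_mul_eq_one _ h3

/-- Points of `A` in a local algebra which are congruent to the unit factor through `C`. -/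
theorem exists_factor [CharZero R] (g : A →ₐc[R] C) (hg : Function.Surjective g)
    (htr : (LinearMap.range (Algebra.trace R C) : Ideal R) ≤ LinearMap.range (Algebra.trace R A))
    {S : Type*} [CommRing S] [Algebra R S] [IsLocalRing S] [IsLocalHom (algebraMap R S)] (x : A →ₐ[R] S)
    (hx : ∀ a, x a - algebraMap R S (counit (R := R) a) ∈ IsLocalRing.maximalIdeal S) :
    ∃ y : C →ₐ[R] S, ∀ a, y (g a) = x a := by
  obtain ⟨r, hr, hr2⟩ := exists_ann g hg htr
  have hxr : IsUnit (x r) := by
    have h1 : x r - 1 ∈ IsLocalRing.maximalIdeal S := by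
      have h2 : x r - 1 = (x r - algebraMap R S (counit (R := R) r)) + algebraMap R S (counit (R := R) r - 1) := by
        rw [map_sub, map_one]; ring
      rw [h2]
      refine Ideal.add_mem _ (hx r) ?_
      rw [IsLocalRing.mem_maximalIdeal, mem_nonunits_iff, isUnit_map_iff]
      exact hr
    by_contra h2
    have h3 : x r ∈ IsLocalRing.maximalIdeal S := h2
    have h4 : (1 : S) ∈ IsLocalRing.maximalIdeal S := by
      have := Ideal.sub_mem _ h3 h1
      rwa [sub_sub_cancel] at this
    exact (Ideal.ne_top_iff_one _).1 (IsLocalRing.maximalIdeal.isMaximal S).ne_top h4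
  have hk : ∀ a, g a = 0 → x a = 0 := by
    intro a ha
    have h1 := hr2 a ha
    have h2 : x r * x a = 0 := by rw [← map_mul, h1, map_zero]
    exact (hxr.mul_right_eq_zero).1 h2
  let e := Ideal.quotientKerAlgEquivOfSurjective (f := (g : A →ₐ[R] C)) hg
  refine ⟨(Ideal.Quotient.liftₐ (RingHom.ker (g : A →ₐ[R] C)) x (fun a ha => hk a ha)).comp e.symm.toAlgHom, fun a => ?_⟩
  have h1 : e.symm (g a) = Ideal.Quotient.mk _ a := by
    rw [AlgEquiv.symm_apply_eq]
    rfl
  change Ideal.Quotient.liftₐ (RingHom.ker (g : A →ₐ[R] C)) x (fun a ha => hk a ha) (e.symm (g a)) = x a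
  rw [h1]
  rfl

end main

section image

variable {R : Type u} [CommRing R] [IsDomain R] [IsDiscreteValuationRing R] {A C : Type u} [CommRing A]
  [HopfAlgebra R A] [CommRing C] [HopfAlgebra R C]

/-- image factorisation of a bialgebra map into a finite free Hopf algebra. -/
theorem exists_image [Module.Finite R C] [Module.Free R C] [Coalgebra.IsCocomm R C] [Module.Finite R A]
    (g : A →ₐc[R] C) :
    ∃ (E : Type u) (_ : CommRing E) (_ : HopfAlgebra R E) (_ : Coalgebra.IsCocomm R E) (_ : Module.Finite R E)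
      (_ : Module.Free R E) (q : A →ₐc[R] E) (κ : E →ₐc[R] C),
      Function.Surjective q ∧ Function.Injective κ ∧ ∀ x, κ (q x) = g x := by
  let B : Subalgebra R C := (g : A →ₐ[R] C).range
  have hBf : Module.Finite R B := Module.Finite.of_surjective (g : A →ₐ[R] C).rangeRestrict.toLinearMap
    (AlgHom.rangeRestrict_surjective _)
  have htf : Module.IsTorsionFree R B := inferInstanceAs (Module.IsTorsionFree R (B.toSubmodule))
  have hfr : Module.Free R B := inferInstance
  have hS : K411.SubHopf.IsSubHopf (k := R) B := by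
    refine ⟨?_, ?_⟩
    · rintro _ ⟨a, rfl⟩
      let r : A →ₗ[R] B := (g : A →ₐ[R] C).rangeRestrict.toLinearMap
      refine ⟨TensorProduct.map r r (CoalgebraStruct.comul (R := R) a), ?_⟩
      rw [← LinearMap.comp_apply, ← TensorProduct.map_comp]
      exact CoalgHomClass.map_comp_comul_apply g a
    · rintro _ ⟨a, rfl⟩
      exact ⟨HopfAlgebraStruct.antipode R a, (Groth.Agent.Books.AffBridge2.antipode_bialgHom_apply g a).symm⟩
  letI := hS.hopf
  have hκ : Function.Injective hS.val := hS.val_injective
  obtain ⟨q, hq⟩ := K411.Lift.exists_lift hS.val hκ g (fun y => ⟨⟨g y, y, rfl⟩, rfl⟩)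
  refine ⟨B, inferInstance, inferInstance, K411.Lift.isCocomm_of_injective hS.val hκ, inferInstance, inferInstance,
    q, hS.val, ?_, hκ, hq⟩
  rintro ⟨_, a, rfl⟩
  exact ⟨a, hκ (hq a)⟩

variable [Module.Finite R A] [Module.Free R A] [Module.Finite R C] [Module.Free R C] [Coalgebra.IsCocomm R A]
  [Coalgebra.IsCocomm R C]

/-- the trace ideal and generically surjective bialgebra maps. -/
theorem trI_le_of_generic [CharZero R] (hLe : NLe.{u}) (g : A →ₐc[R] C)
    (hg : ∀ c : C, ∃ r : R, r ≠ 0 ∧ ∃ a, g a = r • c) : trI R A ≤ trI R C := by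
  obtain ⟨E, _, _, _, _, _, q, κ, hq, hκ, hqκ⟩ := exists_image g
  refine (trI_le q hq).trans (hLe R E C (κ : E →ₐ[R] C) hκ fun c => ?_)
  obtain ⟨r, hr, a, ha⟩ := hg c
  exact ⟨r, hr, q a, (hqκ a).trans ha⟩

/-- A generically surjective bialgebra map is surjective if the trace ideals agree. -/
theorem surjective_of_trI [CharZero R] (hEq : NEq.{u}) (g : A →ₐc[R] C)
    (hg : ∀ c : C, ∃ r : R, r ≠ 0 ∧ ∃ a, g a = r • c) (htr : trI R C ≤ trI R A) : Function.Surjective g := by
  obtain ⟨E, _, _, _, _, _, q, κ, hq, hκ, hqκ⟩ := exists_image g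
  have hgen : ∀ c : C, ∃ r : R, r ≠ 0 ∧ ∃ a, (κ : E →ₐ[R] C) a = r • c := fun c => by
    obtain ⟨r, hr, a, ha⟩ := hg c
    exact ⟨r, hr, q a, (hqκ a).trans ha⟩
  have h1 := hEq R E C (κ : E →ₐ[R] C) hκ hgen (htr.trans (trI_le q hq))
  intro c
  obtain ⟨e, rfl⟩ := h1 c
  obtain ⟨a, rfl⟩ := hq e
  exact ⟨a, (hqκ a).symm⟩

end image

end K346.Conn
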