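import Groth.Agent.SGA7.K346.Kummer
import Groth.Agent.SGA7.K751.Bas

/-!
# Counting points: the order of `Spec B` is at most a constant times the order of `Spec C`
-/

set_option autoImplicit false
set_option linter.unusedSectionVars false
universe u

open CategoryTheory CategoryTheory.Limits AlgebraicGeometry MonoidalCategory CartesianMonoidalCategory MonObj
open TensorProduct IsLocalRing Groth.Agent.Books.AffBridge Groth.Agent.Sga3B.BcPts

namespace K346.Count

/-- a subgroup such that among any `C + 1` elements there are two congruent ones -/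
theorem card_le_of_pigeon {M : Type*} [Group M] [Finite M] (H : Subgroup M) (C : ℕ)
    (h : ∀ x : Fin (C + 1) → M, ∃ i j, i ≠ j ∧ (x i)⁻¹ * x j ∈ H) : Nat.card M ≤ C * Nat.card H := by
  have hC : Nat.card (M ⧸ H) ≤ C := by
    by_contra hcon
    push Not at hcon
    have hf : Fintype (M ⧸ H) := Fintype.ofFinite _
    rw [Nat.card_eq_fintype_card] at hcon
    obtain ⟨e⟩ : Nonempty (Fin (C + 1) ↪ M ⧸ H) :=
      Function.Embedding.nonempty_of_card_le (by rw [Fintype.card_fin]; exact hcon)
    obtain ⟨i, j, hij, hm⟩ := h fun i => (e i).out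
    apply hij
    apply e.injective
    rw [← QuotientGroup.out_eq' (e i), ← QuotientGroup.out_eq' (e j)]
    exact QuotientGroup.eq.2 hm
  rw [Subgroup.card_eq_card_quotient_mul_card_subgroup H]
  exact Nat.mul_le_mul_right _ hC

section main

variable {R K : Type u} [CommRing R] [IsDomain R] [IsDiscreteValuationRing R] [CharZero R] [HenselianLocalRing R]
  [IsAlgClosed (IsLocalRing.ResidueField R)] [Field K] [Algebra R K]
  {B : Type u} [CommRing B] [HopfAlgebra R B] [Coalgebra.IsCocomm R B] [Module.Finite R B] [Module.Free R B]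
  {C : Type u} [CommRing C] [HopfAlgebra R C] [Coalgebra.IsCocomm R C] [Module.Finite R C] [Module.Free R C]
  (q : B →ₐc[R] C) (hq : Function.Surjective q)
  (htr : (LinearMap.range (Algebra.trace R C) : Ideal R) ≤ LinearMap.range (Algebra.trace R B))
  (G : Over (Spec (CommRingCat.of R))) [GrpObj G] [IsCommMonObj G] [Smooth G.hom] [IsSeparated G.hom]
  (hAF : K809.AffNhd.AF G) (j : SpecOver R C ⟶ G) [IsMonHom j]
  (φ : Red.bc (Spec.map (CommRingCat.ofHom (algebraMap R K))) (SpecOver R B) ⟶
    Red.bc (Spec.map (CommRingCat.ofHom (algebraMap R K))) G) [IsMonHom φ] [Mono φ]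
  (hφ : (Over.pullback (Spec.map (CommRingCat.ofHom (algebraMap R K)))).map (specMap R (q : B →ₐ[R] C)) ≫ φ =
    (Over.pullback (Spec.map (CommRingCat.ofHom (algebraMap R K)))).map j)
  {Kb : Type u} [Field Kb] [IsAlgClosed Kb] [CharZero Kb] [Algebra R Kb] (hi : Function.Injective (algebraMap R Kb))
  (t : SpecOver R Kb ⟶ Over.mk (Spec.map (CommRingCat.ofHom (algebraMap R K))))
  {m : ℕ} (hm : ∀ x : SpecOver R Kb ⟶ SpecOver R B, x ^ m = 1)
  (hlift : ∀ T : Over (Spec (CommRingCat.of R)), IsClosedMap T.hom.base → ∀ x : T ⟶ G, x ^ m = 1 →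
    ∃ y : T ⟶ SpecOver R C, y ≫ j = x)
  (C₀ : ℕ) (hC₀ : ∀ z : Fin (C₀ + 1) → (Over.mk (Spec.map (CommRingCat.ofHom (algebraMap R K))) ⟶ G),
    ∃ i j, i ≠ j ∧ ∃ a : 𝟙_ (Over (Spec (CommRingCat.of R))) ⟶ G, (z i)⁻¹ * z j = toUnit _ ≫ a)

include hq htr hAF hφ hi t hm hlift hC₀ in
theorem finrank_le : Module.finrank R B ≤ C₀ * Module.finrank R C := by
  have hqm : IsMonHom (specMap R (q : B →ₐ[R] C)) := isMonHom_specMap R q
  let h : (SpecOver R Kb ⟶ SpecOver R C) →* (SpecOver R Kb ⟶ SpecOver R B) :=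
    { toFun := fun w => w ≫ specMap R (q : B →ₐ[R] C)
      map_one' := MonObj.one_comp _
      map_mul' := fun x y => MonObj.mul_comp x y _ }
  have e1 : Nat.card (SpecOver R Kb ⟶ SpecOver R B) = Module.finrank R B := by
    rw [← K751.Bas.card_pts Kb B]
    exact (Nat.card_congr (specEquiv R)).symm
  have e2 : Nat.card (SpecOver R Kb ⟶ SpecOver R C) = Module.finrank R C := by
    rw [← K751.Bas.card_pts Kb C]
    exact (Nat.card_congr (specEquiv R)).symm
  have f1 : Finite (SpecOver R Kb ⟶ SpecOver R B) := by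
    have := K751.Bas.finite_pts Kb (R := R) B
    exact Finite.of_equiv _ (specEquiv R)
  have f2 : Finite (SpecOver R Kb ⟶ SpecOver R C) := by
    have := K751.Bas.finite_pts Kb (R := R) C
    exact Finite.of_equiv _ (specEquiv R)
  have h1 := card_le_of_pigeon h.range C₀ (by
    intro x
    choose z α hz using fun i => K346.Kummer.kummer q hq htr G hAF j φ hφ hi t (x i)
    obtain ⟨i, k, hik, a, ha⟩ := hC₀ z
    obtain ⟨w, hw⟩ := K346.Kummer.exists_pt q G j φ hφ t hm hlift (x i) (x k) (z i) (z k) (α i) (α k) (hz i) (hz k) a ha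
    exact ⟨i, k, hik, w, hw.symm⟩)
  rw [← e1, ← e2]
  refine h1.trans (Nat.mul_le_mul_left _ ?_)
  exact Nat.card_le_card_of_surjective h.rangeRestrict h.rangeRestrict_surjective

end main

end K346.Count
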