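import Groth.Agent.BTGrp.K787.Kernel
import Groth.Prelude.Def_BT
import Groth.Prelude.Def_SGA7IX

/-!
# The generic homomorphism from the finite part of the semistable model to the given Barsotti-Tate group
-/

set_option autoImplicit false
set_option linter.unusedSectionVars false
universe u

open CategoryTheory CategoryTheory.Limits MonoidalCategory CartesianMonoidalCategory MonObj GrpObj AlgebraicGeometry

namespace K346.Gen

section mono

variable {S : Scheme.{u}}

theorem isMonHom_of_comp {X Y Z : Over S} [GrpObj X] [GrpObj Y] [GrpObj Z] (j : Y ⟶ Z) [IsMonHom j]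
    [Mono j] (a : X ⟶ Y) (h : IsMonHom (a ≫ j)) : IsMonHom a where
  one_hom := by
    rw [← cancel_mono j, Category.assoc, IsMonHom.one_hom (f := a ≫ j), IsMonHom.one_hom]
  mul_hom := by
    rw [← cancel_mono j, Category.assoc, IsMonHom.mul_hom (f := a ≫ j), Category.assoc, IsMonHom.mul_hom,
      ← Category.assoc, tensorHom_comp_tensorHom]

end mono

section powers

variable {S S' : Scheme.{u}} (f : S' ⟶ S)

theorem map_pow {X Y : Over S} [GrpObj Y] (g : X ⟶ Y) (n : ℕ) :
    (Over.pullback f).map (g ^ n) = (Over.pullback f).map g ^ n := by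
  induction n with
  | zero => rw [pow_zero, pow_zero, Functor.map_one]
  | succ n ih => rw [pow_succ, pow_succ, Functor.map_mul, ih]

end powers

section main

variable {R K : Type u} [CommRing R] [Field K] [Algebra R K] {p h hW : ℕ}
  {A : Over (Spec (CommRingCat.of K))} [GrpObj A]
  {P : ℕ → Over (Spec (CommRingCat.of K))} [∀ ν, GrpObj (P ν)] {i : ∀ ν, P ν ⟶ A} {t : ∀ ν, P (ν + 1) ⟶ P ν}
  (hP : BTGrp.IsTatePro A p P i t)
  {G : BTGrp.ProBT p (Spec (CommRingCat.of R)) h}
  (e : ∀ ν, Red.bc (Spec.map (CommRingCat.ofHom (algebraMap R K))) (G.G ν) ≅ P ν)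
  (he : ∀ ν, IsMonHom (e ν).hom)
  (het : ∀ ν, (SGA7.genFib R K).map (G.proj ν) ≫ (e ν).hom = (e (ν + 1)).hom ≫ t ν)
  (hei : ∀ ν, (SGA7.genFib R K).map (G.incl ν) ≫ (e (ν + 1)).hom ≫ i (ν + 1) = (e ν).hom ≫ i ν)
  (H : Over (Spec (CommRingCat.of R))) [GrpObj H]
  (e₁ : Red.bc (Spec.map (CommRingCat.ofHom (algebraMap R K))) H ≅ A) [IsMonHom e₁.hom]
  (W : BTGrp.ProBT p (Spec (CommRingCat.of R)) hW) (j : ∀ n, W.G n ⟶ H) (hj : ∀ n, IsMonHom (j n))
  (hjm : ∀ n, Mono (j n)) (hjp : ∀ n, (j n) ^ (p ^ n) = 1) (hji : ∀ n, W.incl n ≫ j (n + 1) = j n)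
  (hjq : ∀ n, W.proj n ≫ j n = (j (n + 1)) ^ p)

include hP in
theorem mono_i (n : ℕ) : Mono (i n) := K787.BTKer.mono_of_isKernel (hP.1 n).2

include hP in
theorem isMonHom_i (n : ℕ) : IsMonHom (i n) := (hP.1 n).1

include hP he het hei hj hjm hjp hji hjq in
theorem exists_gen :
    ∃ f : ∀ n, (SGA7.genFib R K).obj (W.G n) ⟶ (SGA7.genFib R K).obj (G.G n),
      (∀ n, IsMonHom (f n)) ∧ (∀ n, Mono (f n)) ∧
      (∀ n, f n ≫ (e n).hom ≫ i n = (SGA7.genFib R K).map (j n) ≫ e₁.hom) ∧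
      (∀ n, f n ≫ (SGA7.genFib R K).map (G.incl n) = (SGA7.genFib R K).map (W.incl n) ≫ f (n + 1)) ∧
      (∀ n, f (n + 1) ≫ (SGA7.genFib R K).map (G.proj n) = (SGA7.genFib R K).map (W.proj n) ≫ f n) := by
  have hi := mono_i hP
  have hih := isMonHom_i hP
  have h1 : ∀ n, ∃ y : (SGA7.genFib R K).obj (W.G n) ⟶ P n, y ≫ i n = (SGA7.genFib R K).map (j n) ≫ e₁.hom := by
    intro n
    refine K787.BTKer.exists_lift (hP.1 n).2 _ ?_
    have hjK : IsMonHom ((SGA7.genFib R K).map (j n)) := by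
      have := hj n
      infer_instance
    have h2 : (SGA7.genFib R K).map (j n) ^ (p ^ n) = 1 := by
      have h3 := map_pow (Spec.map (CommRingCat.ofHom (algebraMap R K))) (j n) (p ^ n)
      rw [hjp, Functor.map_one] at h3
      exact h3.symm
    rw [K787.BTKer.comp_pow_id, ← MonObj.pow_comp, h2, MonObj.one_comp]
  have h1' : ∀ n, ∃ y : (SGA7.genFib R K).obj (W.G n) ⟶ (SGA7.genFib R K).obj (G.G n),
      y ≫ (e n).hom ≫ i n = (SGA7.genFib R K).map (j n) ≫ e₁.hom := by
    intro n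
    obtain ⟨y, hy⟩ := h1 n
    exact ⟨y ≫ (e n).inv, by rw [Category.assoc, Iso.inv_hom_id_assoc, hy]⟩
  choose f hf using h1'
  have hm : ∀ n, Mono ((e n).hom ≫ i n) := fun n => mono_comp _ _
  have hmh : ∀ n, IsMonHom ((e n).hom ≫ i n) := fun n => by
    have := he n
    infer_instance
  refine ⟨f, ?_, ?_, hf, ?_, ?_⟩
  · intro n
    refine isMonHom_of_comp ((e n).hom ≫ i n) (f n) ?_
    rw [hf]
    have := hj n
    infer_instance
  · intro n
    have h3 : Mono (f n ≫ (e n).hom ≫ i n) := by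
      rw [hf]
      have := hjm n
      exact mono_comp _ _
    exact mono_of_mono (f n) ((e n).hom ≫ i n)
  · intro n
    rw [← cancel_mono ((e (n + 1)).hom ≫ i (n + 1)), Category.assoc, Category.assoc, hei, hf, hf, ← Category.assoc,
      ← Functor.map_comp, hji]
  · intro n
    rw [← cancel_mono ((e n).hom ≫ i n), Category.assoc, Category.assoc, hf]
    have h4 : (SGA7.genFib R K).map (G.proj n) ≫ (e n).hom ≫ i n = ((e (n + 1)).hom ≫ i (n + 1)) ^ p := by
      rw [← Category.assoc, het, Category.assoc, (hP.2 n).2, MonObj.comp_pow]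
    rw [h4, MonObj.comp_pow, hf, ← Category.assoc, ← Functor.map_comp, hjq, map_pow, MonObj.pow_comp]

/-- the embedding of the generic fibres of the layers into the generic fibre of the model -/
noncomputable def phi (X : ℕ → Over (Spec (CommRingCat.of R))) (m : ∀ n, X n ⟶ G.G n) (n : ℕ) :
    Red.bc (Spec.map (CommRingCat.ofHom (algebraMap R K))) (X n) ⟶
      Red.bc (Spec.map (CommRingCat.ofHom (algebraMap R K))) H :=
  (SGA7.genFib R K).map (m n) ≫ (e n).hom ≫ i n ≫ e₁.inv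

end main

end K346.Gen
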