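import Groth.Agent.Books.AffBridge2
import Groth.Agent.Sga3B.RootBridge989
import Mathlib.AlgebraicGeometry.ZariskisMainTheorem

/-!
# Monomorphic generic fibre and generically surjective bialgebra maps
-/

set_option autoImplicit false
set_option linter.unusedSectionVars false
universe u

open CategoryTheory CategoryTheory.Limits MonoidalCategory CartesianMonoidalCategory MonObj AlgebraicGeometry
open TensorProduct Groth.Agent.Books.AffBridge Groth.Agent.Books.AffBridge2 Groth.Agent.Sga3B.RootBridge989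

namespace K346.Lev

section alg

variable {R K : Type u} [CommRing R] [IsDomain R] [Field K] [Algebra R K] [IsFractionRing R K]

/-- clearing denominators in `K ⊗ B`. -/
theorem exists_smul_eq {B : Type u} [AddCommGroup B] [Module R B] (x : K ⊗[R] B) :
    ∃ r : R, r ≠ 0 ∧ ∃ b : B, r • x = (1 : K) ⊗ₜ[R] b := by
  induction x using TensorProduct.induction_on with
  | zero => exact ⟨1, one_ne_zero, 0, by simp⟩
  | tmul k b =>
    obtain ⟨⟨a, s⟩, hs⟩ := IsLocalization.surj (nonZeroDivisors R) k
    refine ⟨s, nonZeroDivisors.ne_zero s.2, a • b, ?_⟩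
    rw [TensorProduct.smul_tmul', tmul_smul, TensorProduct.smul_tmul']
    congr 1
    rw [Algebra.smul_def, Algebra.smul_def, _root_.mul_one, mul_comm]
    exact hs
  | add x y hx hy =>
    obtain ⟨r, hr, b, hb⟩ := hx
    obtain ⟨s, hs, c, hc⟩ := hy
    refine ⟨r * s, mul_ne_zero hr hs, s • b + r • c, ?_⟩
    rw [smul_add, mul_comm r s, mul_smul, hb, mul_comm s r, mul_smul, hc, tmul_add, tmul_smul, tmul_smul]

theorem exists_of_surjective {B C : Type u} [CommRing B] [CommRing C] [Algebra R B] [Algebra R C] [Module.Flat R C]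
    (q : B →ₗ[R] C) (h : Function.Surjective (q.lTensor K)) (c : C) : ∃ r : R, r ≠ 0 ∧ ∃ b : B, q b = r • c := by
  obtain ⟨x, hx⟩ := h ((1 : K) ⊗ₜ c)
  obtain ⟨r, hr, b, hb⟩ := exists_smul_eq x
  refine ⟨r, hr, b, ?_⟩
  have h1 : Function.Injective (fun v : C => (1 : K) ⊗ₜ[R] v) := by
    have h1 : Function.Injective ((Algebra.linearMap R K).rTensor C) :=
      Module.Flat.rTensor_preserves_injective_linearMap (Algebra.linearMap R K) (IsFractionRing.injective R K)
    have h2 : (fun v : C => (1 : K) ⊗ₜ[R] v) =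
        ((Algebra.linearMap R K).rTensor C) ∘ (TensorProduct.lid R C).symm := by
      ext v
      simp
    rw [h2]
    exact h1.comp (TensorProduct.lid R C).symm.injective
  apply h1
  change (1 : K) ⊗ₜ[R] q b = (1 : K) ⊗ₜ[R] (r • c)
  have h2 := congrArg (q.lTensor K) hb
  rw [LinearMap.lTensor_tmul] at h2
  have h3 : (q.lTensor K) (r • x) = r • (q.lTensor K) x := map_smul _ _ _
  rw [← h2, h3, hx, tmul_smul]

end alg

section geom

variable {R K : Type u} [CommRing R] [IsDomain R] [Field K] [Algebra R K] [IsFractionRing R K]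
  {B : Type u} [CommRing B] [HopfAlgebra R B] [Module.Finite R B]
  {C : Type u} [CommRing C] [HopfAlgebra R C] [Module.Finite R C] [Module.Flat R C]

theorem isFinite_specMap {k : Type u} [CommRing k] {A D : Type u} [CommRing A] [CommRing D] [Algebra k A] [Algebra k D]
    [Module.Finite k D] (f : A →ₐ[k] D) : IsFinite (specMap k f).left := by
  refine (IsFinite.SpecMap_iff _).2 ?_
  have h1 : (f.toRingHom.comp (algebraMap k A)).Finite := by
    have h2 : f.toRingHom.comp (algebraMap k A) = algebraMap k D := f.comp_algebraMap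
    rw [h2]
    exact RingHom.finite_algebraMap.2 inferInstance
  exact RingHom.Finite.of_comp_finite h1

theorem mapBialg_eq (f : B →ₐc[R] C)
    (x : K ⊗[R] B) : Groth.Agent.Sga3A.BCIso.mapBialg K f x = (f : B →ₐ[R] C).toLinearMap.lTensor K x := by
  induction x using TensorProduct.induction_on with
  | zero => rw [map_zero, map_zero]
  | tmul s a => rfl
  | add x y hx hy => rw [map_add, map_add, hx, hy]

/-- monomorphism on the generic fibre: generic surjectivity -/
theorem exists_of_mono (q : B →ₐc[R] C) [Mono ((Over.pullback (sm R K)).map (specMap R (q : B →ₐ[R] C)))] (c : C) :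
    ∃ r : R, r ≠ 0 ∧ ∃ b : B, q b = r • c := by
  have h1 : Mono (specMap K (Groth.Agent.Sga3A.BCIso.mapBialg K q : K ⊗[R] B →ₐ[K] K ⊗[R] C)) := by
    have h2 := bcIso_naturality K q
    rw [← Iso.inv_comp_eq] at h2
    rw [← h2]
    infer_instance
  have h3 : Mono (specMap K (Groth.Agent.Sga3A.BCIso.mapBialg K q : K ⊗[R] B →ₐ[K] K ⊗[R] C)).left := inferInstance
  have h4 : IsFinite (specMap K (Groth.Agent.Sga3A.BCIso.mapBialg K q : K ⊗[R] B →ₐ[K] K ⊗[R] C)).left :=
    isFinite_specMap _
  have h5 : IsClosedImmersion (specMap K (Groth.Agent.Sga3A.BCIso.mapBialg K q : K ⊗[R] B →ₐ[K] K ⊗[R] C)).left :=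
    (IsClosedImmersion.iff_isFinite_and_mono _).2 ⟨h4, h3⟩
  have h6 := (isClosedImmersion_specMap_iff K _).1 h5
  refine exists_of_surjective (K := K) (q : B →ₐ[R] C).toLinearMap ?_ c
  intro y
  obtain ⟨x, hx⟩ := h6 y
  refine ⟨x, ?_⟩
  rw [← hx]
  exact (mapBialg_eq q x).symm

end geom

end K346.Lev
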