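import Groth.Agent.SGA7.K346.Count
import Groth.Agent.SGA7.K346.Gen
import Groth.Agent.SGA7.K346.Lev
import Groth.Agent.SGA7.K852.Sch
import Groth.Agent.SGA7.K226.Comp
import Groth.Agent.SGA7.K751.FinBT
import Groth.Agent.SGA7.K497.Layers
import Groth.Agent.SGA7.K497.TrNodes

/-!
# The height of the finite part is the height of the Barsotti-Tate group
-/

set_option autoImplicit false
set_option linter.unusedSectionVars false
universe u

open CategoryTheory CategoryTheory.Limits AlgebraicGeometry MonoidalCategory CartesianMonoidalCategory MonObj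
open TensorProduct IsLocalRing Groth.Agent.Books.AffBridge Groth.Agent.Sga3B.BcPts Groth.Agent.Sga3B.RootBridge989
open K564.Tate K852.Dict K852.Sch K751.Fin

namespace K346.Height

/-- exponential growth -/
theorem le_of_pow_le {p h h' C : ℕ} (hp : 1 < p) (H : ∀ n, p ^ (n * h) ≤ C * p ^ (n * h')) : h ≤ h' := by
  by_contra hcon
  push Not at hcon
  have h1 : ∀ n, p ^ n ≤ C := by
    intro n
    have h2 : p ^ (n * h') * p ^ n ≤ C * p ^ (n * h') := by
      refine le_trans ?_ (H n)
      rw [← pow_add]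
      refine Nat.pow_le_pow_right hp.le ?_
      have h3 : n * (h' + 1) ≤ n * h := Nat.mul_le_mul_left n hcon
      rw [Nat.mul_succ] at h3
      exact h3
    rw [mul_comm] at h2
    exact Nat.le_of_mul_le_mul_right h2 (Nat.pow_pos (by omega))
  have h4 := h1 (C + 1)
  have h5 : C + 1 < p ^ (C + 1) := Nat.lt_pow_self hp
  omega

section comp

variable {R K : Type u} [CommRing R] [IsDomain R] [IsDiscreteValuationRing R] [HenselianLocalRing R]
    [IsAlgClosed (IsLocalRing.ResidueField R)] [Field K] [Algebra R K] [IsFractionRing R K]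

/-- finitely many components, for points over `R` -/
theorem exists_comp (G : Over (Spec (CommRingCat.of R))) [GrpObj G] [IsCommMonObj G] [Smooth G.hom] [IsSeparated G.hom]
    [QuasiCompact G.hom] (hG : SGA7.FibresUnipotentRankZero G)
    (hirr : ∀ (k' : Type u) [Field k'] (t : Spec (CommRingCat.of k') ⟶ Spec (CommRingCat.of R)),
      IrreducibleSpace ↑(pullback G.hom t))
    [IsProper ((SGA7.genFib R K).obj G).hom] [GeometricallyIntegral ((SGA7.genFib R K).obj G).hom] :
    ∃ C : ℕ, ∀ z : Fin (C + 1) → (Over.mk (Spec.map (CommRingCat.ofHom (algebraMap R K))) ⟶ G),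
      ∃ i j, i ≠ j ∧ ∃ a : 𝟙_ (Over (Spec (CommRingCat.of R))) ⟶ G, (z i)⁻¹ * z j = toUnit _ ≫ a := by
  obtain ⟨C, hC⟩ := K226.Comp.comp R K G hG hirr
  refine ⟨C, fun z => ?_⟩
  let f : Spec (CommRingCat.of K) ⟶ Spec (CommRingCat.of R) := Spec.map (CommRingCat.ofHom (algebraMap R K))
  let s : (Over.map f).obj (𝟙_ (Over (Spec (CommRingCat.of K)))) ≅ Over.mk f :=
    Over.isoMk (Iso.refl _) (by
      change 𝟙 _ ≫ f = 𝟙 _ ≫ f
      rfl)
  let β : (Over.mk f ⟶ G) →* (𝟙_ (Over (Spec (CommRingCat.of K))) ⟶ (SGA7.genFib R K).obj G) :=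
    (bcMulEquiv f (𝟙_ _) G).toMonoidHom.comp
      { toFun := fun y => s.hom ≫ y
        map_one' := MonObj.comp_one _
        map_mul' := fun x y => MonObj.comp_mul _ _ _ }
  obtain ⟨i, j, hij, a, ha⟩ := hC (fun i => β ((z i)⁻¹))
  refine ⟨i, j, hij, a, ?_⟩
  have h1 : β ((z i)⁻¹) * (β ((z j)⁻¹))⁻¹ = β ((z i)⁻¹ * z j) := by
    rw [← map_inv, ← map_mul, inv_inv]
  rw [h1] at ha
  have h2 : ∀ y : Over.mk f ⟶ G, (β y).left ≫ pullback.fst G.hom f = y.left := by
    intro y
    have h3 : (bcEquiv f (𝟙_ (Over (Spec (CommRingCat.of K)))) G (s.hom ≫ y)).left ≫ pullback.fst G.hom f =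
        (s.hom ≫ y).left := by
      simp [bcEquiv, Over.mapPullbackAdj]
      exact pullback.lift_fst (f := G.hom) (g := f) _ _ _
    refine h3.trans ?_
    exact Category.id_comp _
  ext1
  rw [← h2]
  refine ha.symm.trans ?_
  rfl

end comp

section main

theorem pow_G {S : Scheme.{u}} {p h : ℕ} (G : BTGrp.ProBT p S h) (n : ℕ) {T : Over S} (x : T ⟶ G.G n) :
    x ^ (p ^ n) = 1 := by
  have hm : Mono (G.incl n) := K787.BTKer.mono_of_isKernel (G.isKernel n)
  have h1 := K787.BTKer.comp_eq_one (G.isKernel n)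
  rw [← cancel_mono (G.incl n), MonObj.pow_comp, MonObj.one_comp, ← K787.BTKer.comp_pow_id, Category.assoc, h1,
    MonObj.comp_one]

variable {R K : Type u} [CommRing R] [IsDomain R] [IsDiscreteValuationRing R] [CharZero R] [HenselianLocalRing R]
  [IsAlgClosed (IsLocalRing.ResidueField R)] [Field K] [Algebra R K] [IsFractionRing R K] {p h hW : ℕ} [Fact p.Prime]
  {A : Over (Spec (CommRingCat.of K))} [GrpObj A] [IsProper A.hom] [GeometricallyIntegral A.hom]
  {P : ℕ → Over (Spec (CommRingCat.of K))} [∀ ν, GrpObj (P ν)] {i : ∀ ν, P ν ⟶ A} {t : ∀ ν, P (ν + 1) ⟶ P ν}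
  (hP : BTGrp.IsTatePro A p P i t)
  {G : BTGrp.ProBT p (Spec (CommRingCat.of R)) h}
  (e : ∀ ν, Red.bc (Spec.map (CommRingCat.ofHom (algebraMap R K))) (G.G ν) ≅ P ν)
  (he : ∀ ν, IsMonHom (e ν).hom)
  (het : ∀ ν, (SGA7.genFib R K).map (G.proj ν) ≫ (e ν).hom = (e (ν + 1)).hom ≫ t ν)
  (hei : ∀ ν, (SGA7.genFib R K).map (G.incl ν) ≫ (e (ν + 1)).hom ≫ i (ν + 1) = (e ν).hom ≫ i ν)
  (H : Over (Spec (CommRingCat.of R))) [GrpObj H] [IsCommMonObj H] [Smooth H.hom] [IsSeparated H.hom]
  [QuasiCompact H.hom] (hu : SGA7.FibresUnipotentRankZero H) (hAF : K809.AffNhd.AF H)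
  (hirr : ∀ (k' : Type u) [Field k'] (t : Spec (CommRingCat.of k') ⟶ Spec (CommRingCat.of R)),
      IrreducibleSpace ↑(pullback H.hom t))
  (e₁ : Red.bc (Spec.map (CommRingCat.ofHom (algebraMap R K))) H ≅ A) [IsMonHom e₁.hom]
  (W : BTGrp.ProBT p (Spec (CommRingCat.of R)) hW) (j : ∀ n, W.G n ⟶ H)
  (hj : ∀ n, IsFinPart H (W.G n) (p ^ n) (j n)) (hji : ∀ n, W.incl n ≫ j (n + 1) = j n)
  (hjq : ∀ n, W.proj n ≫ j n = (j (n + 1)) ^ p)
  {Φ : Sys R p h} (M : Model G Φ) {Ψ : Sys R p hW} (MW : Model W Ψ) (hF : Full R K p)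
  (htr : trI R (Ψ.B 1) ≤ trI R (Φ.B 1))

include hP he het hei hu hAF hirr e₁ hj hji hjq MW M hF htr in
/-- the height of the finite part is at least the height of the given group. -/
theorem height_le : h ≤ hW := by
  have hpr : IsProper ((SGA7.genFib R K).obj H).hom := by
    have h1 : ((SGA7.genFib R K).obj H).hom = e₁.hom.left ≫ A.hom := (Over.w e₁.hom).symm
    have h2 : IsIso e₁.hom.left := inferInstanceAs (IsIso ((Over.forget _).map e₁.hom))
    rw [h1]
    infer_instance
  have hgi : GeometricallyIntegral ((SGA7.genFib R K).obj H).hom := by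
    have h1 : ((SGA7.genFib R K).obj H).hom = e₁.hom.left ≫ A.hom := (Over.w e₁.hom).symm
    have h2 : IsIso e₁.hom.left := inferInstanceAs (IsIso ((Over.forget _).map e₁.hom))
    rw [h1]
    exact (MorphismProperty.cancel_left_of_respectsIso @GeometricallyIntegral _ _).2 inferInstance
  obtain ⟨f, hf, hfm, hfe, hfi, hfp⟩ := K346.Gen.exists_gen hP e he het hei H e₁ W j (fun n => (hj n).hom)
    (fun n => (hj n).mono) (fun n => (hj n).pow) hji hjq
  obtain ⟨F, hFf⟩ := exists_hom hF W G f hf hfi hfp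
  obtain ⟨C₀, hC₀⟩ := exists_comp (K := K) H hu hirr
  have hpp : 1 < p := (Fact.out : p.Prime).one_lt
  refine le_of_pow_le (C := C₀) hpp (fun n => ?_)
  rw [← Φ.rank n, ← Ψ.rank n]
  have i1 := K346.Gen.mono_i hP n
  have i2 := K346.Gen.isMonHom_i hP n
  have i3 := he n
  have i4 := (hj n).hom
  have i5 := (hj n).mono
  obtain ⟨q, hq⟩ := exists_bialgHom_of_isMonHom R ((MW.iso n).inv ≫ F.app n ≫ (M.iso n).hom)
  have hqm : Mono ((Over.pullback (sm R K)).map (specMap R (q : Φ.B n →ₐ[R] Ψ.B n))) := by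
    have i6 := hfm n
    rw [hq, Functor.map_comp, Functor.map_comp]
    have i7 : Mono ((Over.pullback (sm R K)).map (F.app n)) := by
      have h8 := hFf n
      change (Over.pullback (sm R K)).map (F.app n) = f n at h8
      rw [h8]
      exact i6
    infer_instance
  have hqg := K346.Lev.exists_of_mono (K := K) q
  have htr2 : (LinearMap.range (Algebra.trace R (Ψ.B n)) : Ideal R) ≤ LinearMap.range (Algebra.trace R (Φ.B n)) := by
    have h1 := K497.Layers.nPow R p h Φ n
    have h2 := K497.Layers.nPow R p hW Ψ n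
    change trI R (Ψ.B n) ≤ trI R (Φ.B n)
    rw [h1, h2]
    exact Ideal.pow_right_mono htr n
  have hqs : Function.Surjective q := K346.Conn.surjective_of_trI K497.TrNodes.nEq q hqg htr2
  let φ : Red.bc (Spec.map (CommRingCat.ofHom (algebraMap R K))) (SpecOver R (Φ.B n)) ⟶
      Red.bc (Spec.map (CommRingCat.ofHom (algebraMap R K))) H :=
    (Over.pullback (Spec.map (CommRingCat.ofHom (algebraMap R K)))).map (M.iso n).inv ≫ (e n).hom ≫ i n ≫ e₁.inv
  have hφm : Mono φ := by
    have : Mono ((e n).hom ≫ i n ≫ e₁.inv) := inferInstance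
    exact mono_comp _ _
  have hφh : IsMonHom φ := by
    have : IsMonHom ((e n).hom ≫ i n ≫ e₁.inv) := inferInstance
    infer_instance
  have hφ : (Over.pullback (Spec.map (CommRingCat.ofHom (algebraMap R K)))).map (specMap R (q : Φ.B n →ₐ[R] Ψ.B n)) ≫ φ =
      (Over.pullback (Spec.map (CommRingCat.ofHom (algebraMap R K)))).map ((MW.iso n).inv ≫ j n) := by
    have h1 : (Over.pullback (Spec.map (CommRingCat.ofHom (algebraMap R K)))).map (specMap R (q : Φ.B n →ₐ[R] Ψ.B n)) ≫
        (Over.pullback (Spec.map (CommRingCat.ofHom (algebraMap R K)))).map (M.iso n).inv =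
        (Over.pullback (Spec.map (CommRingCat.ofHom (algebraMap R K)))).map (MW.iso n).inv ≫ f n := by
      rw [← Functor.map_comp, hq, Category.assoc, Category.assoc, Iso.hom_inv_id, Category.comp_id, Functor.map_comp]
      congr 1
      exact hFf n
    change _ ≫ (Over.pullback (Spec.map (CommRingCat.ofHom (algebraMap R K)))).map (M.iso n).inv ≫ (e n).hom ≫ i n ≫ e₁.inv = _
    rw [← Category.assoc, h1, Category.assoc, Functor.map_comp]
    congr 1
    have h3 : f n ≫ (e n).hom ≫ i n ≫ e₁.inv = (f n ≫ (e n).hom ≫ i n) ≫ e₁.inv := by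
      simp only [Category.assoc]
    rw [h3, hfe, Category.assoc, Iso.hom_inv_id, Category.comp_id]
  let Kb := AlgebraicClosure K
  have hi : Function.Injective (algebraMap R Kb) := by
    rw [IsScalarTower.algebraMap_eq R K Kb]
    exact (algebraMap K Kb).injective.comp (IsFractionRing.injective R K)
  have hKc : CharZero K := charZero_of_injective_algebraMap (IsFractionRing.injective R K)
  have hKb : CharZero Kb := charZero_of_injective_algebraMap (algebraMap K Kb).injective
  let t : SpecOver R Kb ⟶ Over.mk (Spec.map (CommRingCat.ofHom (algebraMap R K))) :=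
    Over.homMk (Spec.map (CommRingCat.ofHom (algebraMap K Kb))) (by
      change Spec.map _ ≫ Spec.map _ = Spec.map _
      rw [← Spec.map_comp]
      rfl)
  refine K346.Count.finrank_le q hqs htr2 H hAF ((MW.iso n).inv ≫ j n) φ hφ hi t (m := p ^ n) ?_ ?_ C₀ hC₀
  · intro x
    have h1 := pow_G G n (x ≫ (M.iso n).inv)
    rw [← MonObj.pow_comp] at h1
    rw [← cancel_mono (M.iso n).inv, h1, MonObj.one_comp]
  · intro T hT x hx
    obtain ⟨y, hy⟩ := (hj n).lift T hT x hx
    exact ⟨y ≫ (MW.iso n).hom, by rw [Category.assoc, Iso.hom_inv_id_assoc, hy]⟩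

end main

end K346.Height
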