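import Groth.Agent.SGA7.K346.Cech
import Groth.Agent.SGA7.K346.Cocyc
import Groth.Agent.Sga3B.BcPts
import Groth.Agent.S0427
import Mathlib.AlgebraicGeometry.Sites.Fpqc

/-!
# Kummer theory for a group of multiplicative-by-connected type

`kummer` : a point of a finite group scheme `Spec B` (with `Spec C → Spec B` containing the points congruent to the unit)
in the algebraic closure is the product of a point of the smooth group `G` over `K` and a point over the integral closure.
-/

set_option autoImplicit false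
set_option linter.unusedSectionVars false
universe u

open CategoryTheory CategoryTheory.Limits AlgebraicGeometry MonoidalCategory CartesianMonoidalCategory MonObj
open TensorProduct IsLocalRing Groth.Agent.Books.AffBridge Groth.Agent.Sga3B.BcPts

namespace K346.Kummer

section ev

variable {S S' : Scheme.{u}} {f : S' ⟶ S}

theorem ev_map {X Y : Over S} (g : X ⟶ Y) {T : Over S} (x : T ⟶ X) (t : T ⟶ Over.mk f) :
    ev ((Over.pullback f).map g) x t = x ≫ g := by
  simp only [ev]
  rw [bcEquiv_symm_comp, Equiv.symm_apply_apply, Category.assoc, Iso.inv_hom_id_assoc]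

theorem ev_comp_map {X Y Z : Over S} (g : X ⟶ Y) (φ : Red.bc f Y ⟶ Red.bc f Z) {T : Over S} (x : T ⟶ X)
    (t : T ⟶ Over.mk f) : ev φ (x ≫ g) t = ev ((Over.pullback f).map g ≫ φ) x t := by
  rw [← ev_comp, ev_map]

theorem ev_injective {X Y : Over S} (φ : Red.bc f X ⟶ Red.bc f Y) [Mono φ] {T : Over S} (t : T ⟶ Over.mk f)
    {x y : T ⟶ X} (h : ev φ x t = ev φ y t) : x = y := by
  simp only [ev] at h
  rw [Iso.cancel_iso_inv_left, EmbeddingLike.apply_eq_iff_eq, cancel_mono, EmbeddingLike.apply_eq_iff_eq,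
    Iso.cancel_iso_hom_left] at h
  exact h

theorem ev_one {X Y : Over S} [GrpObj X] [GrpObj Y] (φ : Red.bc f X ⟶ Red.bc f Y) [IsMonHom φ]
    {T : Over S} (t : T ⟶ Over.mk f) : ev φ (1 : T ⟶ X) t = 1 := by
  have h := ev_mul φ (1 : T ⟶ X) 1 t
  rw [_root_.mul_one] at h
  exact (mul_eq_left.1 h.symm)

/-- evaluation as a homomorphism of groups -/
noncomputable def evHom {X Y : Over S} [GrpObj X] [GrpObj Y] (φ : Red.bc f X ⟶ Red.bc f Y) [IsMonHom φ]
    {T : Over S} (t : T ⟶ Over.mk f) : (T ⟶ X) →* (T ⟶ Y) where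
  toFun x := ev φ x t
  map_one' := ev_one φ t
  map_mul' x y := ev_mul φ x y t

theorem evHom_apply {X Y : Over S} [GrpObj X] [GrpObj Y] (φ : Red.bc f X ⟶ Red.bc f Y) [IsMonHom φ]
    {T : Over S} (t : T ⟶ Over.mk f) (x : T ⟶ X) : evHom φ t x = ev φ x t := rfl

end ev

section desc

variable {S : Scheme.{u}}

theorem exists_desc {X Y Z : Over S} (p : X ⟶ Y) [EffectiveEpi p.left] (ζ : X ⟶ Z)
    (h : ∀ {T : Over S} (u v : T ⟶ X), u ≫ p = v ≫ p → u ≫ ζ = v ≫ ζ) : ∃ z : Y ⟶ Z, p ≫ z = ζ := by
  have h1 : ∀ {W : Scheme.{u}} (g₁ g₂ : W ⟶ X.left), g₁ ≫ p.left = g₂ ≫ p.left → g₁ ≫ ζ.left = g₂ ≫ ζ.left := by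
    intro W g₁ g₂ hg
    let T : Over S := Over.mk (g₁ ≫ X.hom)
    have h2 : g₂ ≫ X.hom = g₁ ≫ X.hom := by
      rw [← Over.w p, ← Category.assoc, ← hg, Category.assoc]
    let u : T ⟶ X := Over.homMk g₁ rfl
    let v : T ⟶ X := Over.homMk g₂ h2
    have h3 := h u v (by
      ext1
      exact hg)
    exact congrArg (fun k => k.left) h3
  refine ⟨Over.homMk (EffectiveEpi.desc p.left ζ.left h1) ?_, ?_⟩
  · have he : Epi p.left := inferInstance
    rw [← cancel_epi p.left, ← Category.assoc, EffectiveEpi.fac, Over.w, Over.w]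
  · ext1
    exact EffectiveEpi.fac p.left ζ.left h1

end desc

section spec

variable {R : Type u} [CommRing R] [IsDomain R] [IsDiscreteValuationRing R] {E : Type u} [CommRing E]
  [Algebra R E] [Module.Finite R E]

theorem isFinite_specOver : IsFinite (SpecOver R E).hom :=
  (IsFinite.SpecMap_iff _).2 (RingHom.finite_algebraMap.2 inferInstance)

theorem flat_specOver [IsDomain E] (hi : Function.Injective (algebraMap R E)) : Flat (SpecOver R E).hom := by
  have h1 : Module.IsTorsionFree R E := by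
    refine Module.isTorsionFree_iff_smul_eq_zero.2 fun r x h => ?_
    rw [Algebra.smul_def] at h
    rcases mul_eq_zero.1 h with h2 | h2
    · exact Or.inl ((map_eq_zero_iff _ hi).1 h2)
    · exact Or.inr h2
  have h2 : Module.Flat R E := inferInstance
  exact Flat.SpecMap_iff.2 (RingHom.flat_algebraMap_iff.2 h2)

theorem lfp_specOver : LocallyOfFinitePresentation (SpecOver R E).hom := by
  have h : Algebra.FinitePresentation R E := Algebra.FinitePresentation.of_finiteType.1 inferInstance
  exact (LocallyOfFinitePresentation.SpecMap_iff _).2 (RingHom.finitePresentation_algebraMap.2 h)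

theorem surjective_specOver (hi : Function.Injective (algebraMap R E)) : Surjective (SpecOver R E).hom := by
  have h : FaithfulSMul R E := (faithfulSMul_iff_algebraMap_injective R E).2 hi
  exact ⟨Algebra.IsIntegral.comap_surjective R E⟩

end spec

theorem aux1 {H : Type*} [CommGroup H] {X Y A B : H} (h : X⁻¹ * Y = A⁻¹ * B) : X * A⁻¹ = Y * B⁻¹ := by
  rw [inv_mul_eq_iff_eq_mul] at h
  rw [h, ← _root_.mul_assoc, mul_inv_cancel_right]

section main

variable {R K : Type u} [CommRing R] [IsDomain R] [IsDiscreteValuationRing R] [CharZero R] [HenselianLocalRing R]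
  [IsAlgClosed (IsLocalRing.ResidueField R)] [Field K] [Algebra R K]
  {B : Type u} [CommRing B] [HopfAlgebra R B] [Coalgebra.IsCocomm R B] [Module.Finite R B] [Module.Free R B]
  {C : Type u} [CommRing C] [HopfAlgebra R C] [Coalgebra.IsCocomm R C] [Module.Finite R C] [Module.Free R C]
  (q : B →ₐc[R] C) (hq : Function.Surjective q)
  (htr : (LinearMap.range (Algebra.trace R C) : Ideal R) ≤ LinearMap.range (Algebra.trace R B))
  (G : Over (Spec (CommRingCat.of R))) [GrpObj G] [IsCommMonObj G] [Smooth G.hom] [IsSeparated G.hom]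
  (hAF : K809.AffNhd.AF G) (j : SpecOver R C ⟶ G) [IsMonHom j]

include hq htr hAF in
/-- the point `ξ` is modulo the connected part the difference of points of `G` -/
theorem exists_a {E : Type u} [CommRing E] [IsDomain E] [Algebra R E] [Module.Finite R E]
    (hi : Function.Injective (algebraMap R E)) (ξ : SpecOver R E ⟶ SpecOver R B) :
    ∃ a : SpecOver R E ⟶ G, ∀ {T : Over (Spec (CommRingCat.of R))} (u v : T ⟶ SpecOver R E) (w : T ⟶ SpecOver R C),
      w ≫ specMap R (q : B →ₐ[R] C) = (u ≫ ξ)⁻¹ * (v ≫ ξ) → w ≫ j = (u ≫ a)⁻¹ * (v ≫ a) := by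
  have hE : IsLocalRing E := Groth.Agent.S0427.isLocalRing_of_finite R E
  have h1 : IsFinite (SpecOver R E).hom := isFinite_specOver
  have h2 : Flat (SpecOver R E).hom := flat_specOver hi
  have h3 : LocallyOfFinitePresentation (SpecOver R E).hom := lfp_specOver
  have h4 : Surjective (SpecOver R E).hom := surjective_specOver hi
  have hmono : Mono (specMap R (q : B →ₐ[R] C)) := by
    have h5 : IsClosedImmersion (specMap R (q : B →ₐ[R] C)).left :=
      IsClosedImmersion.spec_of_surjective _ hq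
    have h6 : Mono (specMap R (q : B →ₐ[R] C)).left := inferInstance
    exact (Over.forget _).mono_of_mono_map h6
  have hqm : IsMonHom (specMap R (q : B →ₐ[R] C)) := isMonHom_specMap R q
  choose y hy using fun (T : Over (Spec (CommRingCat.of R))) (u v : T ⟶ SpecOver R E) =>
    K346.Cocyc.exists_cocyc q hq htr ξ u v
  have hy2 : ∀ {T : Over (Spec (CommRingCat.of R))} (u v : T ⟶ SpecOver R E) (w : T ⟶ SpecOver R C),
      w ≫ specMap R (q : B →ₐ[R] C) = (u ≫ ξ)⁻¹ * (v ≫ ξ) → w = y T u v := by
    intro T u v w hw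
    rw [← cancel_mono (specMap R (q : B →ₐ[R] C)), hw, hy]
  obtain ⟨a, ha⟩ := K346.Cech.cech G hAF (SpecOver R E) (fun {T} u v => y T u v ≫ j) (by
      intro T T₁ g u v
      rw [← Category.assoc]
      congr 1
      refine hy2 _ _ _ ?_
      rw [Category.assoc, hy, MonObj.comp_mul, GrpObj.comp_inv, Category.assoc, Category.assoc]) (by
      intro T u v w
      rw [← MonObj.mul_comp]
      congr 1
      refine hy2 _ _ _ ?_
      rw [MonObj.mul_comp, hy, hy, _root_.mul_assoc, mul_inv_cancel_left])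
  refine ⟨a, ?_⟩
  intro T u v w hw
  rw [hy2 u v w hw]
  exact ha u v

variable (φ : Red.bc (Spec.map (CommRingCat.ofHom (algebraMap R K))) (SpecOver R B) ⟶
    Red.bc (Spec.map (CommRingCat.ofHom (algebraMap R K))) G) [IsMonHom φ]
  (hφ : (Over.pullback (Spec.map (CommRingCat.ofHom (algebraMap R K)))).map (specMap R (q : B →ₐ[R] C)) ≫ φ =
    (Over.pullback (Spec.map (CommRingCat.ofHom (algebraMap R K)))).map j)
  {Kb : Type u} [Field Kb] [Algebra R Kb] (hi : Function.Injective (algebraMap R Kb))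
  (t : SpecOver R Kb ⟶ Over.mk (Spec.map (CommRingCat.ofHom (algebraMap R K))))

include hq htr hAF hφ hi in
theorem kummer (x : SpecOver R Kb ⟶ SpecOver R B) :
    ∃ (z : Over.mk (Spec.map (CommRingCat.ofHom (algebraMap R K))) ⟶ G)
      (α : SpecOver R (integralClosure R Kb) ⟶ G),
      ev φ x t = (t ≫ z) * (specMap R (integralClosure R Kb).val ≫ α) := by
  obtain ⟨χ, rfl⟩ : ∃ χ : B →ₐ[R] Kb, specMap R χ = x := ⟨specPreimage R x, specMap_specPreimage R x⟩
  let E : Subalgebra R Kb := χ.range
  have hEf : Module.Finite R E := Module.Finite.of_surjective χ.rangeRestrict.toLinearMap χ.rangeRestrict_surjective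
  have hEi : Function.Injective (algebraMap R E) := fun r s h => hi (congrArg Subtype.val h)
  let ξ : SpecOver R E ⟶ SpecOver R B := specMap R χ.rangeRestrict
  obtain ⟨a, ha⟩ := exists_a q hq htr G hAF j hEi ξ
  have hEl : IsLocalRing E := Groth.Agent.S0427.isLocalRing_of_finite R E
  let U : Over (Spec (CommRingCat.of R)) := Over.mk (Spec.map (CommRingCat.ofHom (algebraMap R K)))
  have h1 : IsFinite (SpecOver R E).hom := isFinite_specOver
  have h2 : Flat (SpecOver R E).hom := flat_specOver hEi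
  have h4 : Surjective (SpecOver R E).hom := surjective_specOver hEi
  let p : SpecOver R E ⊗ U ⟶ U := snd _ _
  have hp : p.left = pullback.snd (SpecOver R E).hom U.hom := rfl
  have e1 : QuasiCompact p.left := by rw [hp]; infer_instance
  have e2 : Flat p.left := by rw [hp]; infer_instance
  have e3 : Surjective p.left := by rw [hp]; infer_instance
  have he : EffectiveEpi p.left := inferInstance
  let ζ : SpecOver R E ⊗ U ⟶ G := ev φ (fst _ _ ≫ ξ) (snd _ _) * (fst _ _ ≫ a)⁻¹
  obtain ⟨z, hz⟩ := exists_desc p ζ (by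
    intro T u v huv
    obtain ⟨w, hw⟩ := K346.Cocyc.exists_cocyc q hq htr ξ (u ≫ fst _ _) (v ≫ fst _ _)
    have h5 := ha _ _ w hw
    have h6 : ev φ (w ≫ specMap R (q : B →ₐ[R] C)) (u ≫ p) = w ≫ j := by
      rw [ev_comp_map, hφ, ev_map]
    rw [hw, ← evHom_apply, map_mul, map_inv, evHom_apply, evHom_apply, h5] at h6
    change u ≫ (ev φ (fst _ _ ≫ ξ) (snd _ _) * (fst _ _ ≫ a)⁻¹) = v ≫ (ev φ (fst _ _ ≫ ξ) (snd _ _) * (fst _ _ ≫ a)⁻¹)
    rw [MonObj.comp_mul, MonObj.comp_mul, GrpObj.comp_inv, GrpObj.comp_inv, comp_ev, comp_ev]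
    change ev φ _ (u ≫ p) * _ = ev φ _ (v ≫ p) * _
    rw [← huv]
    simp only [Category.assoc] at h6 ⊢
    exact aux1 h6)
  have hv : ∀ e ∈ E, e ∈ integralClosure R Kb := by
    intro e he
    exact (Algebra.IsIntegral.isIntegral (R := R) (⟨e, he⟩ : E)).map E.val
  let ι₁ : E →ₐ[R] integralClosure R Kb := Subalgebra.inclusion hv
  have hι : (integralClosure R Kb).val.comp ι₁ = E.val := by
    apply AlgHom.ext
    intro e
    rfl
  refine ⟨z, specMap R ι₁ ≫ a, ?_⟩
  have h7 : lift (specMap R E.val) t ≫ ζ = t ≫ z := by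
    rw [← hz, ← Category.assoc]
    congr 1
    exact lift_snd _ _
  rw [← h7]
  change _ = lift (specMap R E.val) t ≫ (ev φ (fst _ _ ≫ ξ) (snd _ _) * (fst _ _ ≫ a)⁻¹) * _
  rw [MonObj.comp_mul, GrpObj.comp_inv, comp_ev, lift_snd, ← Category.assoc, ← Category.assoc, lift_fst,
    ← Category.assoc (specMap R (integralClosure R Kb).val), ← specMap_comp, ← specMap_comp, hι, inv_mul_cancel_right]
  congr 1

/-- morphisms out of the spectrum of the integral closure are determined by the generic point -/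
theorem cancel_ι {X : Over (Spec (CommRingCat.of R))} [IsSeparated X.hom] {u v : SpecOver R (integralClosure R Kb) ⟶ X}
    (h : specMap R (integralClosure R Kb).val ≫ u = specMap R (integralClosure R Kb).val ≫ v) : u = v := by
  ext1
  have h1 : (specMap R (integralClosure R Kb).val).left ≫ u.left = (specMap R (integralClosure R Kb).val).left ≫ v.left :=
    congrArg (fun k => k.left) h
  have hd : IsDominant (specMap R (integralClosure R Kb).val).left := by
    refine ⟨?_⟩
    exact PrimeSpectrum.denseRange_comap_iff_ker_le_nilRadical _ |>.2 (by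
      have h2 : RingHom.ker ((integralClosure R Kb).val.toRingHom) = ⊥ :=
        (RingHom.injective_iff_ker_eq_bot _).1 Subtype.val_injective
      exact h2.le.trans bot_le)
  have hr : IsReduced (SpecOver R (integralClosure R Kb)).left :=
    inferInstanceAs (IsReduced (Spec (CommRingCat.of (integralClosure R Kb))))
  exact ext_of_isDominant_of_isSeparated X.hom ((Over.w u).trans (Over.w v).symm)
    (specMap R (integralClosure R Kb).val).left h1

variable {m : ℕ} (hm : ∀ x : SpecOver R Kb ⟶ SpecOver R B, x ^ m = 1)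
  (hlift : ∀ T : Over (Spec (CommRingCat.of R)), IsClosedMap T.hom.base → ∀ x : T ⟶ G, x ^ m = 1 →
    ∃ y : T ⟶ SpecOver R C, y ≫ j = x)

include hφ hm hlift in
/-- points with the same class of the generic part differ by a point of the connected part -/
theorem exists_pt [Mono φ] (x x' : SpecOver R Kb ⟶ SpecOver R B)
    (z z' : Over.mk (Spec.map (CommRingCat.ofHom (algebraMap R K))) ⟶ G)
    (α α' : SpecOver R (integralClosure R Kb) ⟶ G)
    (hz : ev φ x t = (t ≫ z) * (specMap R (integralClosure R Kb).val ≫ α))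
    (hz' : ev φ x' t = (t ≫ z') * (specMap R (integralClosure R Kb).val ≫ α'))
    (a : 𝟙_ (Over (Spec (CommRingCat.of R))) ⟶ G) (ha : z⁻¹ * z' = toUnit _ ≫ a) :
    ∃ w : SpecOver R Kb ⟶ SpecOver R C, x⁻¹ * x' = w ≫ specMap R (q : B →ₐ[R] C) := by
  let io := specMap R (integralClosure R Kb).val
  let β : SpecOver R (integralClosure R Kb) ⟶ G := (toUnit _ ≫ a) * (α⁻¹ * α')
  have h1 : ev φ (x⁻¹ * x') t = io ≫ β := by
    rw [← evHom_apply, map_mul, map_inv, evHom_apply, evHom_apply, hz, hz', MonObj.comp_mul, MonObj.comp_mul,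
      GrpObj.comp_inv, ← Category.assoc io (toUnit _) a, toUnit_unique (io ≫ toUnit _) (t ≫ toUnit _), Category.assoc,
      ← ha, MonObj.comp_mul, GrpObj.comp_inv, mul_inv, _root_.mul_mul_mul_comm]
  have h2 : β ^ m = 1 := by
    apply cancel_ι (R := R) (Kb := Kb)
    have h3 : io ≫ β ^ m = (io ≫ β) ^ m := MonObj.comp_pow _ _ _
    change io ≫ β ^ m = io ≫ 1
    rw [h3, ← h1, ← evHom_apply, ← map_pow, hm, map_one, MonObj.comp_one]
  obtain ⟨w, hw⟩ := hlift (SpecOver R (integralClosure R Kb)) (by
    have h3 : IsIntegralHom (SpecOver R (integralClosure R Kb)).hom :=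
      IsIntegralHom.SpecMap_iff.2 (algebraMap_isIntegral_iff.2 inferInstance)
    exact (SpecOver R (integralClosure R Kb)).hom.isClosedMap) β h2
  refine ⟨io ≫ w, ?_⟩
  apply ev_injective φ t
  rw [h1, ev_comp_map, hφ, ev_map, ← hw, Category.assoc]

end main

end K346.Kummer
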