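import Mathlib.RingTheory.Ideal.KrullsHeightTheorem
import Mathlib.RingTheory.Ideal.Cotangent
import Mathlib.RingTheory.Bialgebra.Basic
import Mathlib.RingTheory.Nakayama
import Mathlib.RingTheory.Artinian.Module

/-!
# Cotangent spaces: comparison of a finite bialgebra with the first order neighbourhood of a local ring
-/

set_option autoImplicit false
set_option linter.unusedSectionVars false
universe u

open IsLocalRing

namespace K346.OmAlg

theorem spanFinrank_le {O : Type u} [CommRing O] {r : ℕ} (x : Fin r → O) (m : Ideal O)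
    (h : m = Ideal.span (Set.range x)) : m.spanFinrank ≤ r := by
  rw [h]
  refine (Submodule.spanFinrank_span_le_ncard_of_finite (Set.finite_range x)).trans ?_
  rw [← Set.image_univ]
  refine (Set.ncard_image_le Set.finite_univ).trans ?_
  rw [Set.ncard_univ, Nat.card_fin]

theorem ringKrullDim_le {k : Type u} [Field k] {O : Type u} [CommRing O] [IsLocalRing O] [IsNoetherianRing O]
    {Q : Type u} [CommRing Q] [IsLocalRing Q] [Algebra k Q] (ε : Q →ₐ[k] k) (φ : O →+* Q)
    (hε : ∀ x y, ε x = 0 → ε y = 0 → x * y = 0) (hφ : Function.Surjective φ)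
    (hker : RingHom.ker φ = maximalIdeal O ^ 2) {C : Type u} [CommRing C] [Bialgebra k C] [Module.Finite k C]
    (τ : C →ₐ[k] Q) (hτ : Function.Surjective τ) (hετ : ε.comp τ = Bialgebra.counitAlgHom k C) :
    ringKrullDim O ≤ Module.finrank k (RingHom.ker (Bialgebra.counitAlgHom k C)).Cotangent := by
  set I := RingHom.ker (Bialgebra.counitAlgHom k C) with hI
  have hCn : IsNoetherianRing C := IsNoetherianRing.of_finite k C
  have hfin : Module.Finite k I.Cotangent := by
    have h0 : Module.Finite C I := inferInstance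
    have h1 : Module.Finite C I.Cotangent := Module.Finite.of_surjective I.toCotangent (Ideal.toCotangent_surjective I)
    exact Module.Finite.trans C I.Cotangent
  -- membership in the maximal ideal
  have hm : ∀ x : O, x ∈ maximalIdeal O ↔ ε (φ x) = 0 := by
    have h1 : Function.Surjective ((ε : Q →+* k).comp φ) := by
      intro c
      obtain ⟨x, hx⟩ := hφ (algebraMap k Q c)
      refine ⟨x, ?_⟩
      change ε (φ x) = c
      rw [hx, AlgHom.commutes]
      rfl
    have h2 : (RingHom.ker ((ε : Q →+* k).comp φ)).IsMaximal := RingHom.ker_isMaximal_of_surjective _ h1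
    have h3 := IsLocalRing.eq_maximalIdeal h2
    intro x
    rw [← h3]
    exact Iff.rfl
  let b := Module.finBasis k I.Cotangent
  set d := Module.finrank k I.Cotangent with hd
  choose x hx using fun i => Ideal.toCotangent_surjective I (b i)
  choose y hy using fun i => hφ (τ (x i : C))
  have hxI : ∀ c : I, ε (τ (c : C)) = 0 := fun c => by
    have h1 := DFunLike.congr_fun hετ (c : C)
    exact h1.trans c.2
  have hyO : ∀ i, y i ∈ maximalIdeal O := fun i => (hm _).2 (by rw [hy]; exact hxI _)
  have hsq : ∀ c ∈ I ^ 2, τ c = 0 := by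
    intro c hc
    rw [pow_two] at hc
    refine Submodule.mul_induction_on hc (fun a ha a' ha' => ?_) (fun a a' h h' => ?_)
    · rw [map_mul]
      exact hε _ _ (hxI ⟨a, ha⟩) (hxI ⟨a', ha'⟩)
    · rw [map_add, h, h', add_zero]
  have hspan : ∀ c : I, τ (c : C) = ∑ i, (b.repr (I.toCotangent c) i) • τ (x i : C) := by
    intro c
    have h1 : I.toCotangent c = I.toCotangent (∑ i, (b.repr (I.toCotangent c) i) • x i) := by
      rw [map_sum]
      conv_lhs => rw [← b.sum_repr (I.toCotangent c)]
      refine Finset.sum_congr rfl fun i _ => ?_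
      rw [← hx i]
      exact (map_smul (I.toCotangent.restrictScalars k) _ _).symm
    rw [Ideal.toCotangent_eq] at h1
    have h2 := hsq _ h1
    rw [map_sub, sub_eq_zero] at h2
    rw [h2]
    simp [map_sum]
  have hle : maximalIdeal O ≤ Ideal.span (Set.range y) := by
    refine Submodule.le_of_le_smul_of_le_jacobson_bot (IsNoetherian.noetherian _)
      (IsLocalRing.maximalIdeal_le_jacobson _) ?_
    intro z hz
    obtain ⟨c, hc⟩ := hτ (φ z)
    have hcI : c ∈ I := by
      have h1 := DFunLike.congr_fun hετ c
      change ε (τ c) = _ at h1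
      rw [hc, (hm z).1 hz] at h1
      exact h1.symm
    have h1 := hspan ⟨c, hcI⟩
    choose a ha using fun i => hφ (algebraMap k Q (b.repr (I.toCotangent ⟨c, hcI⟩) i))
    have h2 : z - ∑ i, a i * y i ∈ maximalIdeal O ^ 2 := by
      rw [← hker, RingHom.mem_ker, map_sub, map_sum, ← hc, sub_eq_zero]
      refine h1.trans (Finset.sum_congr rfl fun i _ => ?_)
      rw [map_mul, ha, hy, Algebra.smul_def]
    rw [pow_two] at h2
    have h3 : z = (∑ i, a i * y i) + (z - ∑ i, a i * y i) := by ring
    rw [h3]
    refine Submodule.add_mem_sup ?_ h2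
    exact Ideal.sum_mem _ fun i _ => Ideal.mul_mem_left _ _ (Ideal.subset_span ⟨i, rfl⟩)
  have heq : maximalIdeal O = Ideal.span (Set.range y) :=
    le_antisymm hle (Ideal.span_le.2 (by rintro _ ⟨i, rfl⟩; exact hyO i))
  have h1 := ringKrullDim_le_spanFinrank_maximalIdeal O
  refine h1.trans ?_
  exact_mod_cast spanFinrank_le y _ heq

end K346.OmAlg
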